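import Mathlib.LinearAlgebra.FreeModule.PID
import Mathlib.LinearAlgebra.Dimension.Finrank
import Mathlib.Algebra.Module.Torsion.Free
import Mathlib.GroupTheory.Archimedean
import Mathlib.LinearAlgebra.Dual.Lemmas

/-!
# The line of a vector in a lattice
-/

set_option autoImplicit false
set_option linter.style.haveILetI false

namespace Groth.L14.Luna.SemiRank

variable {M : Type} [AddCommGroup M] [Module.Finite ℤ M] [Module.Free ℤ M]

/-- Projection along the saturated line of a vector, with a generator of that line. -/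
theorem exists_line_proj {a : M} (ha : a ≠ 0) :
    ∃ (r : ℕ) (φ : M →+ (Fin r → ℤ)) (a₀ : M), Function.Surjective φ ∧ a₀ ≠ 0 ∧
      (∀ x, φ x = 0 ↔ ∃ q : ℤ, x = q • a₀) ∧ φ a = 0 ∧
      ∀ x, (∃ p q : ℤ, p ≠ 0 ∧ p • x = q • a) → φ x = 0 := by
  classical
  haveI : IsAddTorsionFree M := .of_isTorsionFree ℤ M
  obtain ⟨f, hf⟩ : ∃ f : Module.Dual ℤ M, f a ≠ 0 := by
    by_contra h
    push Not at h
    exact ha ((Module.forall_dual_apply_eq_zero_iff ℤ a).1 h)
  let L : Submodule ℤ M :=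
    { carrier := {x | ∃ p q : ℤ, p ≠ 0 ∧ p • x = q • a}
      add_mem' := by
        rintro x y ⟨p, q, hp, hx⟩ ⟨p', q', hp', hy⟩
        refine ⟨p * p', p' * q + p * q', mul_ne_zero hp hp', ?_⟩
        rw [smul_add, mul_comm p p', mul_smul p' p x, hx, mul_comm p' p, mul_smul p p' y, hy, ← mul_smul, ← mul_smul,
          ← add_smul]
      zero_mem' := ⟨1, 0, one_ne_zero, by simp⟩
      smul_mem' := by
        rintro c x ⟨p, q, hp, hx⟩
        exact ⟨p, c * q, hp, by rw [smul_comm, hx, mul_smul]⟩ }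
  have haL : a ∈ L := ⟨1, 1, one_ne_zero, rfl⟩
  have hinj : ∀ x ∈ L, f x = 0 → x = 0 := by
    rintro x ⟨p, q, hp, hx⟩ h
    have : f (p • x) = f (q • a) := by rw [hx]
    rw [map_zsmul, map_zsmul, h, smul_zero, eq_comm, smul_eq_mul, mul_eq_zero] at this
    rw [this.resolve_right hf, zero_smul] at hx
    exact (smul_eq_zero.1 hx).resolve_left hp
  obtain ⟨d, hd⟩ := Int.subgroup_cyclic (L.map f).toAddSubgroup
  rw [← AddSubgroup.zmultiples_eq_closure] at hd
  obtain ⟨a₀, ha₀L, ha₀⟩ : d ∈ L.map f := by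
    show d ∈ (L.map f).toAddSubgroup
    rw [hd]; exact AddSubgroup.mem_zmultiples d
  haveI : IsAddTorsionFree (M ⧸ L) := ⟨fun n hn x y h => by
    induction x using Submodule.Quotient.induction_on with
    | H x =>
      induction y using Submodule.Quotient.induction_on with
      | H y =>
        rw [Submodule.Quotient.eq]
        have h' : n • x - n • y ∈ L := by
          rw [← Submodule.Quotient.eq, Submodule.Quotient.mk_smul, Submodule.Quotient.mk_smul]; exact h
        rw [← smul_sub, ← natCast_zsmul] at h'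
        obtain ⟨p, q, hp, he⟩ := h'
        exact ⟨p * n, q, mul_ne_zero hp (by exact_mod_cast hn), by rw [mul_smul, he]⟩⟩
  haveI : Module.IsTorsionFree ℤ (M ⧸ L) := inferInstance
  haveI : Module.Free ℤ (M ⧸ L) := inferInstance
  let b := Module.finBasis ℤ (M ⧸ L)
  refine ⟨_, (b.equivFun.toLinearMap ∘ₗ L.mkQ).toAddMonoidHom, a₀, b.equivFun.surjective.comp L.mkQ_surjective,
    ?_, fun x => ?_, ?_, fun x hx => ?_⟩
  · rintro rfl
    rw [map_zero] at ha₀
    subst ha₀
    have : f a ∈ (L.map f).toAddSubgroup := ⟨a, haL, rfl⟩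
    rw [hd, AddSubgroup.zmultiples_zero_eq_bot, AddSubgroup.mem_bot] at this
    exact hf this
  · have e : (b.equivFun.toLinearMap ∘ₗ L.mkQ).toAddMonoidHom x = 0 ↔ x ∈ L := by simp
    rw [e]
    refine ⟨fun hx => ?_, ?_⟩
    · have : f x ∈ (L.map f).toAddSubgroup := ⟨x, hx, rfl⟩
      rw [hd, AddSubgroup.mem_zmultiples_iff] at this
      obtain ⟨q, hq⟩ := this
      exact ⟨q, sub_eq_zero.1 (hinj _ (L.sub_mem hx (L.smul_mem q ha₀L))
        (by rw [map_sub, map_zsmul, ha₀, ← hq, sub_self]))⟩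
    · rintro ⟨q, rfl⟩
      exact L.smul_mem q ha₀L
  · simp [haL]
  · have : x ∈ L := hx
    simp [this]

omit [Module.Finite ℤ M] in
/-- An automorphism trivial modulo a line acts on it by a sign. -/
theorem sign_of_aut {r : ℕ} {φ : M →+ (Fin r → ℤ)} {a₀ : M} (ha₀ : a₀ ≠ 0) (hker : ∀ x, φ x = 0 ↔ ∃ q : ℤ, x = q • a₀)
    {θ θ' : M →+ M} (h : φ.comp θ = φ) (h' : φ.comp θ' = φ) (hinv : θ'.comp θ = AddMonoidHom.id M) :
    θ a₀ = a₀ ∨ θ a₀ = -a₀ := by
  haveI : IsAddTorsionFree M := .of_isTorsionFree ℤ M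
  have hz : φ a₀ = 0 := (hker _).2 ⟨1, (one_smul _ _).symm⟩
  obtain ⟨q, hq⟩ := (hker (θ a₀)).1 ((DFunLike.congr_fun h a₀).trans hz)
  obtain ⟨q', hq'⟩ := (hker (θ' a₀)).1 ((DFunLike.congr_fun h' a₀).trans hz)
  have e : θ' (θ a₀) = a₀ := DFunLike.congr_fun hinv a₀
  rw [hq, map_zsmul, hq', ← mul_smul] at e
  have e1 : q * q' = 1 := by
    by_contra hne
    refine ha₀ ((smul_eq_zero.1 (show (q * q' - 1) • a₀ = 0 by rw [sub_smul, e, one_smul, sub_self])).resolve_left ?_)
    omega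
  rcases Int.eq_one_or_neg_one_of_mul_eq_one e1 with rfl | rfl
  · exact Or.inl (by rw [hq, one_smul])
  · exact Or.inr (by rw [hq, neg_one_smul])

omit [Module.Finite ℤ M] in
/-- An automorphism of finite order trivial modulo a line and on it is trivial. -/
theorem eq_id_of_finite_order {r : ℕ} {φ : M →+ (Fin r → ℤ)} {a₀ : M} (hker : ∀ x, φ x = 0 ↔ ∃ q : ℤ, x = q • a₀)
    {θ : M →+ M} (h : φ.comp θ = φ) (hfix : θ a₀ = a₀) {n : ℕ} (hn : n ≠ 0) (hord : ∀ x, θ^[n] x = x) :
    θ = AddMonoidHom.id M := by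
  haveI : IsAddTorsionFree M := .of_isTorsionFree ℤ M
  refine AddMonoidHom.ext fun x => ?_
  obtain ⟨q, hq⟩ := (hker (θ x - x)).1 (by rw [map_sub, ← AddMonoidHom.comp_apply, h, sub_self])
  have key : ∀ m : ℕ, θ^[m] x = x + m • (q • a₀) := by
    intro m
    induction m with
    | zero => simp
    | succ m ih =>
      rw [Function.iterate_succ_apply', ih, map_add, map_nsmul, map_zsmul, hfix, succ_nsmul,
        show θ x = x + q • a₀ by rw [← hq]; abel]
      abel
  have h0 := hord x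
  rw [key, add_eq_left, smul_eq_zero] at h0
  rw [AddMonoidHom.id_apply, show θ x = x + q • a₀ by rw [← hq]; abel, h0.resolve_left hn, _root_.add_zero]

end Groth.L14.Luna.SemiRank
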