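import Groth.Agent.L14.RankOne.NonComm
import Groth.Agent.L25.SplitSub.Map
import Groth.Agent.L08.Borel.Points
import Mathlib.FieldTheory.IsAlgClosed.Basic
import Mathlib.LinearAlgebra.Dual.Lemmas

/-!
# The additive group and root homomorphisms over an algebraically closed field
-/

set_option autoImplicit false
set_option backward.isDefEq.respectTransparency.types false
set_option linter.style.haveILetI false
set_option linter.unusedSectionVars false
set_option maxHeartbeats 1000000

universe u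

open CategoryTheory CategoryTheory.Limits MonoidalCategory CartesianMonoidalCategory MonObj GrpObj AlgebraicGeometry
open Groth.L25

noncomputable section

namespace Groth.L14.Luna.SemiRank

variable {k : Type u} [Field k]

local notation "U1" => 𝟙_ (Over (Spec (CommRingCat.of k)))
local notation "SK" => Spec (CommRingCat.of k)
set_option quotPrecheck false in
local notation "Γ1" => Γ((𝟙_ (Over (Spec (CommRingCat.of k)))).left, ⊤)

theorem smooth_Ga (S : Scheme.{u}) : Smooth (Red.Ga S).hom := by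
  haveI : Smooth (Red.GaZ.{u}).hom := by
    refine (HasRingHomProperty.Spec_iff (P := @Smooth)).2 ?_
    exact RingHom.smooth_algebraMap.2
      (inferInstanceAs (Algebra.Smooth (ULift.{u} ℤ) (SymmetricAlgebra (ULift.{u} ℤ) (ULift.{u} ℤ))))
  exact MorphismProperty.pullback_snd (P := @Smooth) _ _ ‹_›

theorem isAffine_Ga : IsAffine (Red.Ga SK).left := by
  haveI : IsAffineHom (Red.Ga SK).hom :=
    MorphismProperty.pullback_snd _ _ (inferInstanceAs (IsAffineHom (Spec.map (CommRingCat.ofHom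
      (algebraMap (ULift.{u} ℤ) (SymmetricAlgebra (ULift.{u} ℤ) (ULift.{u} ℤ)))))))
  exact isAffine_of_isAffineHom (Red.Ga SK).hom

theorem connectedSpace_Ga : ConnectedSpace (Red.Ga SK).left := by
  haveI := Groth.L14.RankOne.connectedSpace_line (S := SK) (K := k) (𝟙 SK)
  let f : (Red.bc (𝟙 SK) (Red.Ga SK)).left ⟶ (Red.Ga SK).left := pullback.fst _ _
  haveI : IsIso f := inferInstanceAs (IsIso (pullback.fst (Red.Ga SK).hom (𝟙 SK)))
  exact f.surjective.connectedSpace f.continuous

theorem hasNoSubtorus_Ga [IsAlgClosed k] : Red.HasNoSubtorus k (Red.Ga SK) := by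
  refine Groth.L08.WeilInsep.hasNoSubtorus_of_torsion _ fun n t hn ht => GaPts.gaFn_injective ?_
  have hpow : ∀ m : ℕ, Red.gaFn (t ^ m) = (m : Γ1) * Red.gaFn t := by
    intro m
    induction m with
    | zero => rw [pow_zero, GaPts.gaFn_one, Nat.cast_zero, zero_mul]
    | succ i ih => rw [pow_succ, GaPts.gaFn_mul, ih]; push_cast; ring
  have h2 : ((n : ℕ) : Γ1) * Red.gaFn t = 0 := by rw [← hpow, ht, GaPts.gaFn_one]
  have hu : IsUnit ((n : ℕ) : Γ1) := by
    have := (isUnit_iff_ne_zero.2 hn).map (Scheme.ΓSpecIso (CommRingCat.of k)).inv.hom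
    rwa [map_natCast] at this
  show Red.gaFn t = Red.gaFn _
  rw [GaPts.gaFn_one, hu.mul_right_eq_zero.1 h2]

theorem isSolvableGrp_Ga : Red.IsSolvableGrp (Red.Ga SK) :=
  ⟨1, fun X => by
    rw [derivedSeries_one, commutator_def, Subgroup.commutator_eq_bot_iff_le_centralizer]
    intro x _
    rw [Subgroup.mem_centralizer_iff]
    intro y _
    refine GaPts.gaFn_injective ?_
    show Red.gaFn (y * x) = Red.gaFn (x * y)
    rw [GaPts.gaFn_mul, GaPts.gaFn_mul, add_comm]⟩

/-- The point of the additive group with given coordinate. -/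
abbrev pnt (v : Γ1) : U1 ⟶ Red.Ga SK := GaPts.ptOfElt v

theorem one_eq_pnt : (1 : U1 ⟶ Red.Ga SK) = pnt 0 :=
  GaPts.gaFn_injective (by simp [GaPts.gaFn_one, GaPts.gaFn_ptOfElt])

theorem gaFn_ne_zero {x : U1 ⟶ Red.Ga SK} (hx : x ≠ 1) : Red.gaFn x ≠ 0 := fun h =>
  hx (GaPts.gaFn_injective (h.trans GaPts.gaFn_one.symm))

theorem exists_eq_algebraMap (v : Γ1) : ∃ c : k, (Scheme.ΓSpecIso (CommRingCat.of k)).inv c = v :=
  ⟨(Scheme.ΓSpecIso (CommRingCat.of k)).hom v, Iso.hom_inv_id_apply _ _⟩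

variable {M : Type} [AddCommGroup M]

theorem gmFn_chi {X : Over SK} (t : X ⟶ Red.DS SK M) (m : M) :
    Red.gmFn (t ≫ Red.chi SK m) = DSPts.char t (Multiplicative.ofAdd m) := by
  have h := DFunLike.congr_fun (SplitSub.char_DSmap t (zmultiplesHom M m : ℤ →+ M)) (Multiplicative.ofAdd 1)
  refine Eq.trans ?_ (h.trans ?_)
  · rfl
  · show DSPts.char t (Multiplicative.ofAdd ((zmultiplesHom M m) 1)) = _
    rw [zmultiplesHom_apply, one_zsmul]

variable [Module.Finite ℤ M] [Module.Free ℤ M] [IsAlgClosed k]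

/-- A nonzero character takes every nonzero value on rational points. -/
theorem exists_pt_char {m : M} (hm : m ≠ 0) {c : k} (hc : c ≠ 0) :
    ∃ t : U1 ⟶ Red.DS SK M, DSPts.char t (Multiplicative.ofAdd m) = (Scheme.ΓSpecIso (CommRingCat.of k)).inv c := by
  obtain ⟨f, hf⟩ : ∃ f : Module.Dual ℤ M, f m ≠ 0 := by
    by_contra h
    push Not at h
    exact hm ((Module.forall_dual_apply_eq_zero_iff ℤ m).1 h)
  obtain ⟨r₀, hr₀⟩ := IsAlgClosed.exists_pow_nat_eq c (Int.natAbs_pos.2 hf)
  have hr₀0 : r₀ ≠ 0 := fun e => hc (by rw [← hr₀, e, zero_pow (Int.natAbs_pos.2 hf).ne'])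
  let w : kˣ := if 0 ≤ f m then Units.mk0 r₀ hr₀0 else (Units.mk0 r₀ hr₀0)⁻¹
  have hw : ((w ^ f m : kˣ) : k) = c := by
    rw [← hr₀]
    by_cases h : 0 ≤ f m
    · obtain ⟨q, hq⟩ := Int.eq_ofNat_of_zero_le h
      simp [w, hq]
    · obtain ⟨q, hq⟩ := Int.exists_eq_neg_ofNat (not_le.1 h).le
      have hw' : w = (Units.mk0 r₀ hr₀0)⁻¹ := if_neg h
      rw [hw', hq]
      simp
  let χ : Multiplicative M →* Γ1 :=
    (Scheme.ΓSpecIso (CommRingCat.of k)).inv.hom.toMonoidHom.comp
      { toFun := fun x => ((w ^ f x.toAdd : kˣ) : k)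
        map_one' := by simp
        map_mul' := fun x y => by simp [zpow_add] }
  refine ⟨DSPts.pt χ, ?_⟩
  rw [DSPts.char_pt]
  show (Scheme.ΓSpecIso (CommRingCat.of k)).inv _ = _
  exact congrArg _ hw

/-- Characters agreeing on rational points are equal. -/
theorem eq_of_char_pts {m m' : M}
    (h : ∀ t : U1 ⟶ Red.DS SK M, DSPts.char t (Multiplicative.ofAdd m) = DSPts.char t (Multiplicative.ofAdd m')) :
    m = m' := by
  by_contra hne
  obtain ⟨c, hc0, hc1⟩ : ∃ c : k, c ≠ 0 ∧ c ≠ 1 := by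
    classical
    obtain ⟨c, hc⟩ := Infinite.exists_notMem_finset ({0, 1} : Finset k)
    simp only [Finset.mem_insert, Finset.mem_singleton, not_or] at hc
    exact ⟨c, hc.1, hc.2⟩
  obtain ⟨t, ht⟩ := exists_pt_char (sub_ne_zero.2 hne) hc0
  have e : DSPts.char t (Multiplicative.ofAdd m) =
      DSPts.char t (Multiplicative.ofAdd (m - m')) * DSPts.char t (Multiplicative.ofAdd m') := by
    rw [← map_mul, ← ofAdd_add, sub_add_cancel]
  have hu : IsUnit (DSPts.char t (Multiplicative.ofAdd m')) := (Group.isUnit _).map _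
  rw [← h t, ht] at e
  have e1 : (Scheme.ΓSpecIso (CommRingCat.of k)).inv c = 1 := by
    refine (hu.mul_left_inj).1 ?_
    rw [_root_.one_mul, ← h t]; exact e.symm
  exact hc1 ((ConcreteCategory.bijective_of_isIso (Scheme.ΓSpecIso (CommRingCat.of k)).inv).1 (e1.trans (map_one _).symm))

end Groth.L14.Luna.SemiRank
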