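import Groth.Agent.L14.Luna.SemiRank.Borels
import Groth.Agent.L14.Luna.SemiRank.Line
import Groth.Agent.L14.Luna.Cor
import Groth.Agent.L14.Luna.UnipRad
import Groth.Agent.L14.Luna.Orbits
import Groth.Agent.L19.AlgGrpBasic.OrbitDim

/-!
# Roots in the Borel subgroups of a group of semisimple rank one
-/

set_option autoImplicit false
set_option backward.isDefEq.respectTransparency.types false
set_option linter.style.haveILetI false
set_option linter.unusedSectionVars false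
set_option maxHeartbeats 1000000

universe u

open CategoryTheory CategoryTheory.Limits MonoidalCategory CartesianMonoidalCategory MonObj GrpObj AlgebraicGeometry
open Groth.L08.Borel Groth.L15.GenSub Groth.L25

noncomputable section

namespace Groth.L14.Luna.SemiRank

variable {k : Type u} [Field k] [IsAlgClosed k]

local notation "U1" => 𝟙_ (Over (Spec (CommRingCat.of k)))
local notation "SK" => Spec (CommRingCat.of k)

/-- A morphism from a smooth irreducible variety through the unit generates a smooth connected subgroup. -/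
theorem exists_generated_connected {X G : Over (Spec (CommRingCat.of k))} [GrpObj G] [IsAffine G.left]
    [LocallyOfFiniteType G.hom] [Smooth X.hom] [IrreducibleSpace X.left] (f : X ⟶ G) (x₀ : U1 ⟶ X) (hx₀ : x₀ ≫ f = 1) :
    ∃ (N : Over (Spec (CommRingCat.of k))) (_ : GrpObj N) (n : N ⟶ G), IsMonHom n ∧ IsClosedImmersion n.left ∧
      Smooth N.hom ∧ ConnectedSpace N.left ∧ (∃ f' : X ⟶ N, f' ≫ n = f) ∧
      ∀ (N' : Over (Spec (CommRingCat.of k))) (_ : GrpObj N') (n' : N' ⟶ G), IsMonHom n' → IsClosedImmersion n'.left →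
        (∃ f'' : X ⟶ N', f'' ≫ n' = f) → ∃ j : N ⟶ N', j ≫ n' = n := by
  haveI : LocallyOfFiniteType X.hom := inferInstance
  haveI : IsReduced X.left := Groth.Agent.AV.isReduced_of_smooth_field X.hom
  haveI := Groth.L16.SecComp.geometricallyReduced_of_smooth X.hom
  haveI := Groth.L25.GeomIrred.geometricallyIrreducible_of_isAlgClosed X.hom
  obtain ⟨N, gN, n, hn, hnc, ⟨f', hf'⟩, hgred, hmin, h, hh, hdom⟩ := exists_generated f
  haveI := hn; haveI := hnc; haveI := hgred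
  haveI : Mono n := Over.mono_of_mono_left n
  haveI hNred : IsReduced N.left := @dom_isReduced _ _ _ _ hdom fun l => (redProd_WObj l.down).isReduced
  haveI : LocallyOfFiniteType N.hom := by rw [← Over.w n]; infer_instance
  haveI : IsAffine N.left := isAffine_of_isAffineHom n.left
  have hmem : ∀ l, ptOf (1 : U1 ⟶ N) ∈ Set.range (h l).left := fun l => by
    obtain ⟨o, ho⟩ := exists_pt_wMap f _ hx₀ l.down
    have e : o ≫ h l = 1 := by rw [← cancel_mono n, Category.assoc, hh, ho, MonObj.one_comp]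
    exact ⟨ptOf o, congrArg ptOf e⟩
  have hpre : _root_.IsPreconnected (closure (⋃ l, Set.range (h l).left)) := by
    refine (isPreconnected_iUnion ⟨ptOf (1 : U1 ⟶ N), Set.mem_iInter.2 hmem⟩ fun l => ?_).closure
    haveI := irreducibleSpace_WObj (X := X) l.down
    exact isPreconnected_range (h l).left.continuous
  rw [(dom_dense hdom).closure_eq] at hpre
  exact ⟨N, gN, n, hn, hnc, smooth_of_reduced_group N,
    { toPreconnectedSpace := ⟨hpre⟩, toNonempty := ⟨ptOf (1 : U1 ⟶ N)⟩ }, ⟨f', hf'⟩, hmin⟩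

/-- The point of the additive group given by a scalar multiple of a square zero element. -/
def dualPt (c : k) : Groth.L14.RankOne.Sp (𝟙 SK) (DualNumber k) ⟶ Red.Ga SK :=
  Groth.L14.RankOne.gp (𝟙 SK) (TrivSqZeroExt.inr c)

namespace Setup

variable {C T : Over (Spec (CommRingCat.of k))} [GrpObj C] [GrpObj T] [IsAffine C.left] [Smooth C.hom]
  [ConnectedSpace C.left] {iT : T ⟶ C} (Δ : Setup C T iT)

/-- A root homomorphism of a nonzero weight. -/
def IsRoot (u : Red.Ga SK ⟶ C) (m : Δ.M) : Prop := Red.IsRootHom iT (Δ.e ≫ Red.chi SK m) u ∧ m ≠ 0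

/-- The coefficient of a torus point. -/
def coeff (m : Δ.M) {X : Over (Spec (CommRingCat.of k))} (t : X ⟶ T) : Γ(X.left, ⊤) :=
  DSPts.char (t ≫ Δ.e) (Multiplicative.ofAdd m)

variable {Δ}

theorem scale {u : Red.Ga SK ⟶ C} {m : Δ.M} (hu : Δ.IsRoot u m) {X : Over (Spec (CommRingCat.of k))} (t : X ⟶ T)
    (x : X ⟶ Red.Ga SK) : ∃ y : X ⟶ Red.Ga SK,
      y ≫ u = (t ≫ iT) * (x ≫ u) * (t ≫ iT)⁻¹ ∧ Red.gaFn y = Δ.coeff m t * Red.gaFn x := by
  obtain ⟨y, h1, h2⟩ := hu.1.2.2 X t x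
  exact ⟨y, h1, by rw [h2, ← Category.assoc, gmFn_chi]; rfl⟩

theorem exists_coeff {m : Δ.M} (hm : m ≠ 0) {c : k} (hc : c ≠ 0) :
    ∃ t : U1 ⟶ T, Δ.coeff m t = (Scheme.ΓSpecIso (CommRingCat.of k)).inv c := by
  obtain ⟨t, ht⟩ := exists_pt_char hm hc
  refine ⟨t ≫ inv Δ.e, ?_⟩
  rw [coeff, Category.assoc, IsIso.inv_hom_id, Category.comp_id, ht]

/-- Any two nontrivial points of a root group are conjugate under the torus. -/
theorem exists_scale {u : Red.Ga SK ⟶ C} {m : Δ.M} (hu : Δ.IsRoot u m) {x y : U1 ⟶ Red.Ga SK} (hx : x ≠ 1)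
    (hy : y ≠ 1) : ∃ t : U1 ⟶ T, y ≫ u = (t ≫ iT) * (x ≫ u) * (t ≫ iT)⁻¹ := by
  obtain ⟨a, ha⟩ := exists_eq_algebraMap (Red.gaFn x)
  obtain ⟨b, hb⟩ := exists_eq_algebraMap (Red.gaFn y)
  have ha0 : a ≠ 0 := fun e => gaFn_ne_zero hx (by rw [← ha, e, map_zero])
  have hb0 : b ≠ 0 := fun e => gaFn_ne_zero hy (by rw [← hb, e, map_zero])
  obtain ⟨t, ht⟩ := Δ.exists_coeff hu.2 (div_ne_zero hb0 ha0)
  obtain ⟨y', h1, h2⟩ := scale hu t x
  refine ⟨t, ?_⟩
  rw [← h1]
  congr 1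
  refine GaPts.gaFn_injective ?_
  show Red.gaFn y = Red.gaFn y'
  rw [h2, ht, ← ha, ← hb, ← map_mul, div_mul_cancel₀ b ha0]

theorem props {u : Red.Ga SK ⟶ C} {m : Δ.M} (hu : Δ.IsRoot u m) :
    IsMonHom u ∧ IsClosedImmersion u.left ∧ Mono u :=
  ⟨hu.1.1, hu.1.2.1, haveI := hu.1.2.1; Over.mono_of_mono_left u⟩

theorem one_ne_pnt : (pnt (k := k) 1) ≠ 1 := fun h => by
  have := congrArg (fun x => Red.gaFn x) h
  simp only [GaPts.gaFn_ptOfElt, GaPts.gaFn_one] at this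
  have h' := congrArg (Scheme.ΓSpecIso (CommRingCat.of k)).hom this
  rw [map_one, map_zero] at h'
  exact one_ne_zero h'

/-- The root group lies in a Borel subgroup containing the torus. -/
theorem exists_borel {u : Red.Ga SK ⟶ C} {m : Δ.M} (hu : Δ.IsRoot u m) :
    ∃ (B : Over (Spec (CommRingCat.of k))) (_ : GrpObj B) (iB : B ⟶ C) (t : T ⟶ B),
      Red.IsBorelOver k iB ∧ t ≫ iB = iT ∧ ∃ f : Red.Ga SK ⟶ B, f ≫ iB = u := by
  classical
  obtain ⟨hum, huc, humono⟩ := props hu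
  haveI := hum; haveI := huc
  haveI := Δ.max.1; haveI := Δ.max.2.1
  haveI := smooth_Ga SK; haveI := connectedSpace_Ga (k := k); haveI := isAffine_Ga (k := k)
  haveI : IsReduced (Red.Ga SK).left := Groth.Agent.AV.isReduced_of_smooth_field (Red.Ga SK).hom
  obtain ⟨hTaff, hTsm, hTcon, -, hcomm⟩ := torus_props Δ.max.2.2.1
  haveI := hTaff; haveI := hTsm; haveI := hTcon
  haveI : IsReduced T.left := Groth.Agent.AV.isReduced_of_smooth_field T.hom
  haveI : Group.IsSolvable (U1 ⟶ T) := Group.isSolvable_of_comm fun a b => hcomm _ a b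
  haveI : LocallyOfFiniteType C.hom := inferInstance
  obtain ⟨B, gB, b₀, hB⟩ := Groth.L08.Borel.exists_borel C
  haveI := hB.1; haveI := hB.2.1; haveI := hB.2.2.1; haveI := hB.2.2.2.1
  haveI : IsAffine B.left := isAffine_of_isAffineHom b₀.left
  obtain ⟨X, a, o, hX⟩ := exists_isQuotient b₀
  haveI := isProper_quotient_of_borel hB hX
  have horb : ∀ g : U1 ⟶ C, g ≫ a.orbitMap o = lift g o ≫ a.act := fun g => by
    rw [comp_orbitMap, toUnit_unique (toUnit U1) (𝟙 _), Category.id_comp]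
  -- the fixed points of the root group
  obtain ⟨g₀, φ, hφ⟩ := exists_conj_factor u isSolvableGrp_Ga hX
  have hmove : ∀ c : U1 ⟶ Red.Ga SK, ∃ (Z : Over (Spec (CommRingCat.of k))) (i : Z ⟶ X), IsClosedImmersion i.left ∧
      ∀ x : U1 ⟶ X, ptOf x ∈ Set.range i.left ↔ lift (c ≫ u) x ≫ a.act = x := by
    intro c
    obtain ⟨Z, i, hi, hfix, hlift⟩ :=
      Groth.L19.AlgGrpBasic.exists_eqLocus (lift (toUnit X ≫ c ≫ u) (𝟙 X) ≫ a.act) (𝟙 X)
    haveI := hi
    haveI : LocallyOfFiniteType Z.hom := by rw [← Over.w i]; infer_instance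
    have e : ∀ x : U1 ⟶ X, x ≫ lift (toUnit X ≫ c ≫ u) (𝟙 X) ≫ a.act = lift (c ≫ u) x ≫ a.act := fun x => by
      rw [← Category.assoc, comp_lift, Category.comp_id, ← Category.assoc x, toUnit_unique (x ≫ toUnit X) (𝟙 _),
        Category.id_comp]
    refine ⟨Z, i, hi, fun x => ⟨fun hx => ?_, fun hx => ?_⟩⟩
    · obtain ⟨z, rfl⟩ := exists_pt_lift i x hx
      rw [← e, Category.assoc, hfix, Category.comp_id]
    · obtain ⟨z, rfl⟩ := hlift U1 x (by rw [e, hx, Category.comp_id])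
      exact ⟨ptOf z, rfl⟩
  choose Z i hi hmem using hmove
  haveI := hi
  let F : Set X.left := ⋂ c, Set.range (i c).left
  have hF : IsClosed F := isClosed_iInter fun c => (i c).left.isClosedEmbedding.isClosed_range
  have hmemF : ∀ x : U1 ⟶ X, ptOf x ∈ F ↔ ∀ c : U1 ⟶ Red.Ga SK, lift (c ≫ u) x ≫ a.act = x := fun x => by
    simp only [F, Set.mem_iInter, hmem]
  have hne : F.Nonempty := by
    refine ⟨ptOf (g₀⁻¹ ≫ a.orbitMap o), (hmemF _).2 fun c => ?_⟩
    rw [horb, ← Groth.L25.Actions.mul_act, ← horb, ← horb]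
    refine (orbitMap_eq_iff hX _ _).2 ⟨(c ≫ φ)⁻¹, ?_⟩
    rw [GrpObj.inv_comp, Category.assoc, hφ, Groth.L14.Luna.pt_conjBy]
    group
  let aT := Groth.L14.Luna.restrict a iT
  have hst : ∀ x : U1 ⟶ X, ptOf x ∈ F → Set.range (aT.orbitMap x).left ⊆ F := by
    intro x hx
    have hsub := subset_of_pts (X := T) (S := Set.univ) isClosed_univ (hF.preimage (aT.orbitMap x).left.continuous)
      fun s _ => by
        show ptOf (s ≫ aT.orbitMap x) ∈ F
        refine (hmemF _).2 fun c => ?_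
        rw [comp_orbitMap, toUnit_unique (toUnit U1) (𝟙 _), Category.id_comp, lift_restrict,
          ← Groth.L25.Actions.mul_act]
        obtain ⟨y, hy, -⟩ := scale hu s⁻¹ c
        have e : (c ≫ u) * (s ≫ iT) = (s ≫ iT) * (y ≫ u) := by
          rw [hy, GrpObj.inv_comp]; group
        rw [e, Groth.L25.Actions.mul_act, (hmemF x).1 hx y]
    rintro _ ⟨p, rfl⟩
    exact hsub (Set.mem_univ p)
  haveI : QuasiCompact T.hom := quasiCompact_of_compactSpace _
  obtain ⟨x, hxF, hxcl⟩ := exists_closed_orbit_in aT hF hne hst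
  have hfix := isFixedPt_of_isClosed aT x hxcl
  obtain ⟨g, hg⟩ := exists_point_eq hX x
  have hfac : ∀ {s : U1 ⟶ C}, lift s x ≫ a.act = x → ∃ q : U1 ⟶ B, q ≫ AGF.conjBy g b₀ = s := fun {s} h => by
    rw [← hg, horb, ← Groth.L25.Actions.mul_act, ← horb, ← horb] at h
    obtain ⟨q, hq⟩ := (orbitMap_eq_iff hX _ _).1 h
    refine ⟨q⁻¹, ?_⟩
    rw [Groth.L14.Luna.pt_conjBy, GrpObj.inv_comp, hq]
    group
  haveI := isClosedImmersion_conjBy g b₀
  obtain ⟨t, ht⟩ := factor_of_pts iT (AGF.conjBy g b₀) fun s => hfac (by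
    have h1 := hfix U1 s
    rw [toUnit_unique (toUnit U1) (𝟙 _), Category.id_comp, lift_restrict] at h1
    exact h1)
  obtain ⟨f, hf⟩ := factor_of_pts u (AGF.conjBy g b₀) fun c => hfac ((hmemF x).1 hxF c)
  exact ⟨B, gB, _, t, isBorelOver_conjBy hB g, ht, f, hf⟩

/-- A root group lies in no two different Borel subgroups containing the torus. -/
theorem iso_of_root (hC : Red.IsReductiveOver k C) {u : Red.Ga SK ⟶ C} {m : Δ.M} (hu : Δ.IsRoot u m)
    {B B' : Over (Spec (CommRingCat.of k))} [GrpObj B] [GrpObj B'] {iB : B ⟶ C} {iB' : B' ⟶ C}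
    (hB : Red.IsBorelOver k iB) (hB' : Red.IsBorelOver k iB') {t : T ⟶ B} {t' : T ⟶ B'} (ht : t ≫ iB = iT)
    (ht' : t' ≫ iB' = iT) (hf : ∃ f : Red.Ga SK ⟶ B, f ≫ iB = u) (hf' : ∃ f : Red.Ga SK ⟶ B', f ≫ iB' = u) :
    ∃ e : B ≅ B', e.hom ≫ iB' = iB := by
  by_contra hne
  obtain ⟨hum, huc, humono⟩ := props hu
  haveI := hum; haveI := huc
  haveI := smooth_Ga SK; haveI := connectedSpace_Ga (k := k)
  obtain ⟨f, hf⟩ := hf
  obtain ⟨f', hf'⟩ := hf'
  have h1 : u = 1 := eq_one_of_borels hC Δ.max u hasNoSubtorus_Ga fun B'' _ iB'' t'' hB'' ht'' => by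
    rcases Δ.trichotomy hB hB' hB'' ht ht' ht'' with h | ⟨e, he⟩ | ⟨e, he⟩
    · exact absurd h hne
    · exact ⟨f ≫ e.hom, by rw [Category.assoc, he, hf]⟩
    · exact ⟨f' ≫ e.hom, by rw [Category.assoc, he, hf']⟩
  refine one_ne_pnt (k := k) ((cancel_mono u).1 ?_)
  rw [h1, MonObj.comp_one, MonObj.comp_one]

/-- Beside a Borel subgroup containing the torus and a root group there is another one. -/
theorem exists_other (hC : Red.IsReductiveOver k C) {u : Red.Ga SK ⟶ C} {m : Δ.M} (hu : Δ.IsRoot u m)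
    {B : Over (Spec (CommRingCat.of k))} [GrpObj B] {iB : B ⟶ C} {t : T ⟶ B} (hB : Red.IsBorelOver k iB)
    (ht : t ≫ iB = iT) (hf : ∃ f : Red.Ga SK ⟶ B, f ≫ iB = u) :
    ∃ (B' : Over (Spec (CommRingCat.of k))) (_ : GrpObj B') (iB' : B' ⟶ C) (t' : T ⟶ B'),
      Red.IsBorelOver k iB' ∧ t' ≫ iB' = iT ∧ ¬ ∃ e : B ≅ B', e.hom ≫ iB' = iB := by
  by_contra hne
  push Not at hne
  obtain ⟨hum, huc, humono⟩ := props hu
  haveI := hum; haveI := huc
  haveI := smooth_Ga SK; haveI := connectedSpace_Ga (k := k)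
  obtain ⟨f, hf⟩ := hf
  have h1 : u = 1 := eq_one_of_borels hC Δ.max u hasNoSubtorus_Ga fun B'' _ iB'' t'' hB'' ht'' => by
    obtain ⟨e, he⟩ := hne B'' _ iB'' t'' hB'' ht''
    exact ⟨f ≫ e.hom, by rw [Category.assoc, he, hf]⟩
  refine one_ne_pnt (k := k) ((cancel_mono u).1 ?_)
  rw [h1, MonObj.comp_one, MonObj.comp_one]

theorem coeff_toUnit (m : Δ.M) {X : Over (Spec (CommRingCat.of k))} (t : U1 ⟶ T) :
    Δ.coeff m (toUnit X ≫ t) = (toUnit X).left.appTop (Δ.coeff m t) := by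
  rw [coeff, coeff, Category.assoc, DSPts.char_comp]

theorem appTop_toUnit_Sp {A : Type u} [CommRing A] [Algebra k A] (c : k) :
    (toUnit (Groth.L14.RankOne.Sp (𝟙 SK) A)).left.appTop ((Scheme.ΓSpecIso (CommRingCat.of k)).inv c) =
      (Scheme.ΓSpecIso (CommRingCat.of A)).inv (algebraMap k A c) := by
  have e : (toUnit (Groth.L14.RankOne.Sp (𝟙 SK) A)).left = Spec.map (CommRingCat.ofHom (algebraMap k A)) := by
    have h := Over.w (toUnit (Groth.L14.RankOne.Sp (𝟙 SK) A))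
    exact (Category.comp_id _).symm.trans (h.trans (Category.comp_id _))
  rw [e]
  exact (congrArg (fun φ => φ.hom c) (Scheme.ΓSpecIso_inv_naturality (CommRingCat.ofHom (algebraMap k A)))).symm

theorem algebraMap_mul_inr (a c : k) :
    algebraMap k (DualNumber k) a * TrivSqZeroExt.inr c = TrivSqZeroExt.inr (a * c) := by
  rw [TrivSqZeroExt.algebraMap_eq_inl, TrivSqZeroExt.inl_mul_inr, smul_eq_mul]

theorem scale_dualPt (a c : k) :
    (toUnit (Groth.L14.RankOne.Sp (𝟙 SK) (DualNumber k))).left.appTop ((Scheme.ΓSpecIso (CommRingCat.of k)).inv a) *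
      Red.gaFn (dualPt c) = Red.gaFn (dualPt (a * c)) := by
  rw [appTop_toUnit_Sp, dualPt, dualPt, Groth.L14.RankOne.gaFn_gp, Groth.L14.RankOne.gaFn_gp, ← map_mul,
    algebraMap_mul_inr]

open Groth.L14.RankOne in
/-- A homomorphism of the additive group acts linearly on tangent vectors. -/
theorem exists_tangent (φ : Red.Ga SK ⟶ Red.Ga SK) [IsMonHom φ] [Mono φ] :
    ∃ d : k, d ≠ 0 ∧ ∀ c : k, dualPt c ≫ φ = dualPt (c * d) := by
  let z := gv (dualPt (1 : k) ≫ φ)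
  let h0 : DualNumber k →ₐ[k] k := TrivSqZeroExt.fstHom k k k
  have hz0 : h0 z = 0 := by
    have e1 : mor (𝟙 SK) h0 ≫ dualPt (1 : k) = 1 := by
      have e0 : h0 (TrivSqZeroExt.inr (R := k) (1 : k)) = 0 := TrivSqZeroExt.fst_inr (R := k) (1 : k)
      rw [dualPt, mor_gp, e0, gp_zero]
    have e2 : mor (𝟙 SK) h0 ≫ dualPt (1 : k) ≫ φ = 1 := by rw [← Category.assoc, e1, MonObj.one_comp]
    rw [← gp_gv (dualPt (1 : k) ≫ φ), mor_gp, ← gp_zero] at e2
    have := congrArg gv e2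
    rwa [gv_gp, gv_gp] at this
  have hz : z = TrivSqZeroExt.inr z.snd := by
    refine TrivSqZeroExt.ext ?_ ?_
    · rw [TrivSqZeroExt.fst_inr]; exact hz0
    · rw [TrivSqZeroExt.snd_inr]
  have hpt : ∀ c : k, dualPt c ≫ φ = dualPt (c * z.snd) := by
    intro c
    let hc : DualNumber k →ₐ[k] DualNumber k := TrivSqZeroExt.map (c • (LinearMap.id : k →ₗ[k] k))
    have e1 : mor (𝟙 SK) hc ≫ dualPt (1 : k) = dualPt c := by
      rw [dualPt, dualPt, mor_gp]
      congr 1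
      exact (TrivSqZeroExt.map_inr _ _).trans (congrArg TrivSqZeroExt.inr (by simp))
    rw [← e1, Category.assoc, ← gp_gv (dualPt (1 : k) ≫ φ), mor_gp, dualPt]
    congr 1
    show hc z = _
    rw [hz, TrivSqZeroExt.snd_inr]
    exact (TrivSqZeroExt.map_inr _ _).trans (congrArg TrivSqZeroExt.inr (by simp [smul_eq_mul]))
  refine ⟨z.snd, fun h => ?_, hpt⟩
  have h1 := hpt 1
  rw [h, mul_zero] at h1
  have h2 : dualPt (0 : k) = 1 := by rw [dualPt, TrivSqZeroExt.inr_zero, gp_zero]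
  rw [h2, ← MonObj.one_comp φ, cancel_mono, ← h2] at h1
  have h3 := congrArg gv h1
  rw [dualPt, dualPt, gv_gp, gv_gp] at h3
  exact one_ne_zero (TrivSqZeroExt.inr_injective h3)

/-- Root homomorphisms factoring through each other have the same weight. -/
theorem weight_eq {u u' : Red.Ga SK ⟶ C} {m m' : Δ.M} (hu : Δ.IsRoot u m) (hu' : Δ.IsRoot u' m')
    (φ : Red.Ga SK ⟶ Red.Ga SK) (hφ : φ ≫ u' = u) : m = m' := by
  obtain ⟨hum, huc, humono⟩ := props hu
  obtain ⟨hum', huc', humono'⟩ := props hu'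
  haveI := hum; haveI := hum'; haveI := humono; haveI := humono'
  haveI : IsMonHom φ := isMonHom_of_comp_mono φ u' u hφ
  haveI : Mono φ := by haveI : Mono (φ ≫ u') := hφ ▸ humono; exact mono_of_mono φ u'
  obtain ⟨d, hd0, hd⟩ := exists_tangent (k := k) φ
  refine eq_of_char_pts (k := k) fun t₀ => ?_
  let t : U1 ⟶ T := t₀ ≫ inv Δ.e
  have hcoeff : ∀ n : Δ.M, DSPts.char t₀ (Multiplicative.ofAdd n) = Δ.coeff n t := fun n => by
    simp [coeff, t]
  rw [hcoeff, hcoeff]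
  obtain ⟨a, ha⟩ := exists_eq_algebraMap (Δ.coeff m t)
  obtain ⟨b, hb⟩ := exists_eq_algebraMap (Δ.coeff m' t)
  obtain ⟨y, hy, hyv⟩ := scale hu (toUnit _ ≫ t) (dualPt (1 : k))
  obtain ⟨y', hy', hy'v⟩ := scale hu' (toUnit _ ≫ t) (dualPt (1 : k) ≫ φ)
  have hyy : y ≫ φ = y' := by
    rw [← cancel_mono u', Category.assoc, hφ, hy, hy', Category.assoc (dualPt (1 : k)), hφ]
  rw [coeff_toUnit, ← ha, scale_dualPt, _root_.mul_one] at hyv
  rw [coeff_toUnit, hd, _root_.one_mul, ← hb, scale_dualPt] at hy'v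
  have ey : y = dualPt a := GaPts.gaFn_injective hyv
  have ey' : y' = dualPt (b * d) := GaPts.gaFn_injective hy'v
  rw [ey, hd, ey'] at hyy
  have h3 := congrArg Groth.L14.RankOne.gv hyy
  rw [dualPt, dualPt, Groth.L14.RankOne.gv_gp, Groth.L14.RankOne.gv_gp] at h3
  rw [← ha, ← hb, mul_right_cancel₀ hd0 (TrivSqZeroExt.inr_injective h3)]

include Δ in
/-- A point of the radical of a Borel subgroup lying in another Borel subgroup is trivial. -/
theorem eq_one_of_mem (hC : Red.IsReductiveOver k C)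
    {B B' : Over (Spec (CommRingCat.of k))} [GrpObj B] [GrpObj B'] {iB : B ⟶ C} {iB' : B' ⟶ C}
    (hB : Red.IsBorelOver k iB) (hB' : Red.IsBorelOver k iB') {t : T ⟶ B} {t' : T ⟶ B'} (ht : t ≫ iB = iT)
    (ht' : t' ≫ iB' = iT) (hne : ¬ ∃ e : B ≅ B', e.hom ≫ iB' = iB)
    {T₀ : Over (Spec (CommRingCat.of k))} [GrpObj T₀] (p : B ⟶ T₀) [IsMonHom p] (hT₀ : Red.IsTorus T₀)
    (hp : ∀ r : U1 ⟶ T, r ≫ t ≫ p = 1 → r = 1)
    {V : Over (Spec (CommRingCat.of k))} [GrpObj V] (v : V ⟶ B) (hV : Par.IsUnipotentRadical v)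
    (hker : ∀ (Y : Over (Spec (CommRingCat.of k))) (y : Y ⟶ B), y ≫ p = 1 → ∃ y' : Y ⟶ V, y' ≫ v = y)
    (s : U1 ⟶ B) (hs : s ≫ p = 1) (hs' : ∃ q : U1 ⟶ B', q ≫ iB' = s ≫ iB) : s = 1 := by
  haveI := Δ.max.1; haveI := Δ.max.2.1
  haveI := hB.1; haveI := hB.2.1; haveI := hB.2.2.1; haveI := hB'.1; haveI := hB'.2.1
  haveI : Mono iB := Groth.L08.mono_of_closedImmersion iB
  haveI : Mono iB' := Groth.L08.mono_of_closedImmersion iB'
  haveI : LocallyOfFiniteType C.hom := inferInstance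
  obtain ⟨hvm, hvc, -, -, -, hVns⟩ := unipotentRadical_data hV
  haveI := hvm; haveI := hvc
  haveI : Mono v := Over.mono_of_mono_left v
  obtain ⟨-, hTsm, hTcon, -, -⟩ := torus_props Δ.max.2.2.1
  haveI := hTsm; haveI := hTcon
  haveI : IrreducibleSpace T.left := Groth.L25.ConnIrred.irreducibleSpace T
  obtain ⟨q, hq⟩ := hs'
  let σ : T ⟶ B := t * (toUnit T ≫ s) * t⁻¹ * (toUnit T ≫ s)⁻¹
  let σ' : T ⟶ B' := t' * (toUnit T ≫ q) * t'⁻¹ * (toUnit T ≫ q)⁻¹
  let f : T ⟶ C := σ ≫ iB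
  have hσ' : σ' ≫ iB' = f := by
    simp only [f, σ, σ', MonObj.mul_comp, GrpObj.inv_comp, Category.assoc, hq, ht, ht']
  haveI : IsMonHom t := isMonHom_of_comp_mono t iB iT ht
  obtain ⟨-, -, -, -, hcomm₀⟩ := torus_props hT₀
  have hσp : σ ≫ p = 1 := by
    simp only [σ, MonObj.mul_comp, GrpObj.inv_comp, Category.assoc, hs, MonObj.comp_one]
    simp
  have h0 : (1 : U1 ⟶ T) ≫ f = 1 := by
    have e : (1 : U1 ⟶ T) ≫ σ = 1 := by
      simp only [σ, MonObj.comp_mul, GrpObj.comp_inv, ← Category.assoc, MonObj.one_comp,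
        toUnit_unique ((1 : U1 ⟶ T) ≫ toUnit T) (𝟙 _), Category.id_comp]
      simp
    rw [← Category.assoc, e, MonObj.one_comp]
  obtain ⟨N, gN, n, hn, hnc, hNs, hNc, ⟨f', hf'⟩, hmin⟩ := exists_generated_connected f _ h0
  haveI := hn; haveI := hnc; haveI := hNs; haveI := hNc
  haveI : IsClosedImmersion (v ≫ iB).left := inferInstanceAs (IsClosedImmersion (v.left ≫ iB.left))
  obtain ⟨σv, hσv⟩ := hker T σ hσp
  obtain ⟨j₁, hj₁⟩ := hmin V _ (v ≫ iB) inferInstance inferInstance ⟨σv, by rw [← Category.assoc, hσv]⟩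
  obtain ⟨j₂, hj₂⟩ := hmin B' _ iB' inferInstance inferInstance ⟨σ', hσ'⟩
  haveI : Mono n := Over.mono_of_mono_left n
  haveI : IsMonHom j₁ := isMonHom_of_comp_mono j₁ (v ≫ iB) n hj₁
  haveI : Mono j₁ := by haveI : Mono (j₁ ≫ v ≫ iB) := hj₁ ▸ inferInstance; exact mono_of_mono j₁ (v ≫ iB)
  have hn1 : n = 1 := eq_one_of_borels hC Δ.max n (hasNoSubtorus_of_mono j₁ hVns) fun B'' _ iB'' t'' hB'' ht'' => by
    rcases Δ.trichotomy hB hB' hB'' ht ht' ht'' with h | ⟨e, he⟩ | ⟨e, he⟩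
    · exact absurd h hne
    · exact ⟨j₁ ≫ v ≫ e.hom, by rw [Category.assoc, Category.assoc, he, hj₁]⟩
    · exact ⟨j₂ ≫ e.hom, by rw [Category.assoc, he, hj₂]⟩
  have hf1 : f = 1 := by rw [← hf', hn1, MonObj.comp_one]
  have hconj : AGF.conjBy (s ≫ iB) iT = iT := by
    have e : iT * (toUnit T ≫ s ≫ iB) * iT⁻¹ * (toUnit T ≫ s ≫ iB)⁻¹ = 1 := by
      refine Eq.trans ?_ hf1
      simp only [f, σ, MonObj.mul_comp, GrpObj.inv_comp, Category.assoc, ht]
    simp only [AGF.conjBy]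
    rw [mul_inv_eq_one, mul_inv_eq_iff_eq_mul] at e
    rw [← e, mul_inv_cancel_right]
  obtain ⟨r, hr⟩ := Δ.self_centralizing _ hconj
  have e1 : r ≫ t = s := by rw [← cancel_mono iB, Category.assoc, ht, hr]
  have e2 : r = 1 := hp r (by rw [← Category.assoc, e1, hs])
  rw [← e1, e2, MonObj.one_comp]

/-- Two roots in one Borel subgroup have the same weight. -/
theorem weight_eq_of_borel (hC : Red.IsReductiveOver k C) {u u' : Red.Ga SK ⟶ C} {m m' : Δ.M}
    (hu : Δ.IsRoot u m) (hu' : Δ.IsRoot u' m') {B : Over (Spec (CommRingCat.of k))} [GrpObj B] {iB : B ⟶ C}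
    (hB : Red.IsBorelOver k iB) {t : T ⟶ B} (ht : t ≫ iB = iT)
    (hf : ∃ f : Red.Ga SK ⟶ B, f ≫ iB = u) (hf' : ∃ f : Red.Ga SK ⟶ B, f ≫ iB = u') : m = m' := by
  classical
  obtain ⟨hum, huc, humono⟩ := props hu
  obtain ⟨hum', huc', humono'⟩ := props hu'
  haveI := hum; haveI := hum'; haveI := huc; haveI := huc'
  haveI := Δ.max.1; haveI := Δ.max.2.1
  haveI := smooth_Ga SK; haveI := connectedSpace_Ga (k := k); haveI := isAffine_Ga (k := k)
  haveI : IsReduced (Red.Ga SK).left := Groth.Agent.AV.isReduced_of_smooth_field (Red.Ga SK).hom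
  haveI : QuasiCompact (Red.Ga SK).hom := quasiCompact_of_compactSpace _
  haveI := hB.1; haveI := hB.2.1; haveI := hB.2.2.1; haveI := hB.2.2.2.1
  haveI : IsAffine B.left := isAffine_of_isAffineHom iB.left
  haveI : Mono iB := Groth.L08.mono_of_closedImmersion iB
  haveI : LocallyOfFiniteType C.hom := inferInstance
  obtain ⟨B', gB', iB', t', hB', ht', hne⟩ := exists_other hC hu hB ht hf
  haveI := hB'.1; haveI := hB'.2.1; haveI := hB'.2.2.1
  obtain ⟨T₀, _, i₀, p, V, gV, v, h0m, h0mono, hT₀, hpm, hip, hV, -, hker⟩ :=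
    exists_retraction_radical B hB.2.2.2.2.1
  haveI := hpm; haveI := h0m; haveI := h0mono
  -- the torus maps injectively to the quotient
  have hp : ∀ r : U1 ⟶ T, r ≫ t ≫ p = 1 → r = 1 := by
    intro r hr
    haveI : IsMonHom t := isMonHom_of_comp_mono t iB iT ht
    haveI : Mono t := by haveI : Mono (t ≫ iB) := ht ▸ inferInstance; exact mono_of_mono t iB
    have hmaxT : AGF.IsMaxTorus t := isMaxTorus_factor (iB := iB) (ht.symm ▸ Δ.max)
    obtain ⟨T₁, _, i₁, p₁, h1m, h1mono, hT₁, hp₁m, hip₁, -, habs⟩ := exists_torus_absorbing (G := B) hB.2.2.2.2.1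
    haveI := h1m; haveI := h1mono; haveI := hp₁m
    obtain ⟨hvm, hvc, -, hVs, hVc, hVns⟩ := unipotentRadical_data hV
    haveI := hvm; haveI := hvc; haveI := hVs; haveI := hVc
    haveI : IsAffine V.left := isAffine_of_isAffineHom v.left
    have hvp : v ≫ p₁ = 1 := hom_torus_eq_one (isSolvableGrp_of_noSubtorus V hVns) hVns hT₁ (v ≫ p₁)
    obtain ⟨-, -, -, -, hcomm⟩ := torus_props hT₁
    obtain ⟨b, e, he⟩ := exists_maxTorus_conj hmaxT (isMaxTorus_of_absorbing i₁ hT₁ habs)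
    have htp : t ≫ p₁ = e.hom := by
      have h := congrArg (· ≫ p₁) he
      simp only [Category.assoc, hip₁, Category.comp_id, conjBy_comp] at h
      rw [h]
      simp only [AGF.conjBy]
      rw [hcomm _ _ (t ≫ p₁), mul_inv_cancel_right]
    obtain ⟨y, hy⟩ := hker U1 (r ≫ t) (by rw [Category.assoc]; exact hr)
    haveI : IsMonHom e.hom := htp ▸ inferInstance
    rw [← cancel_mono e.hom, MonObj.one_comp, ← htp, ← Category.assoc, ← hy, Category.assoc, hvp, MonObj.comp_one]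
  obtain ⟨f, hf⟩ := hf
  obtain ⟨f', hf'⟩ := hf'
  have hfp : ∀ g : Red.Ga SK ⟶ B, g ≫ iB = u ∨ g ≫ iB = u' → g ≫ p = 1 := by
    intro g hg
    haveI : IsMonHom g := by
      rcases hg with h | h
      · exact isMonHom_of_comp_mono g iB u h
      · exact isMonHom_of_comp_mono g iB u' h
    exact hom_torus_eq_one isSolvableGrp_Ga hasNoSubtorus_Ga hT₀ (g ≫ p)
  -- orbits in the quotient by the other Borel subgroup
  obtain ⟨X, a, o, hX⟩ := exists_isQuotient iB'
  haveI := isProper_quotient_of_borel hB' hX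
  have hdim := Δ.dim_quotient_le hB' ht' hX
  haveI : IrreducibleSpace C.left := Groth.L25.ConnIrred.irreducibleSpace C
  haveI : IrreducibleSpace X.left :=
    Groth.L06.GenericFibreDim.irreducibleSpace_of_surjective (a.orbitMap o).left (by
      haveI := hX.2.2.1; exact (a.orbitMap o).left.surjective)
  haveI : IrreducibleSpace (Red.Ga SK).left := Groth.L25.ConnIrred.irreducibleSpace _
  have horb : ∀ g : U1 ⟶ C, g ≫ a.orbitMap o = lift g o ≫ a.act := fun g => by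
    rw [comp_orbitMap, toUnit_unique (toUnit U1) (𝟙 _), Category.id_comp]
  have hout : ∀ {w : Red.Ga SK ⟶ C} {n : Δ.M}, Δ.IsRoot w n → (∃ g : Red.Ga SK ⟶ B, g ≫ iB = w) →
      ∀ x : U1 ⟶ Red.Ga SK, x ≠ 1 → ¬ ∃ q : U1 ⟶ B', q ≫ iB' = x ≫ w := by
    intro w n hw hwB x hx ⟨q, hq⟩
    refine hne (iso_of_root hC hw hB hB' ht ht' hwB ?_)
    refine exists_lift_of_points iB' w fun z => ?_
    rcases eq_or_ne z 1 with rfl | hz
    · haveI := (props hw).1
      exact ⟨1, by rw [MonObj.one_comp, MonObj.one_comp]⟩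
    obtain ⟨s, hs⟩ := exists_scale hw hx hz
    exact ⟨(s ≫ t') * q * (s ≫ t')⁻¹, by
      rw [hs, MonObj.mul_comp, MonObj.mul_comp, GrpObj.inv_comp, Category.assoc, ht', hq]⟩
  -- the two orbits are dense open
  have hopen : ∀ {w : Red.Ga SK ⟶ C} {n : Δ.M}, Δ.IsRoot w n → (∃ g : Red.Ga SK ⟶ B, g ≫ iB = w) →
      IsOpen (Set.range (w ≫ a.orbitMap o).left) := by
    intro w n hw hwB
    haveI := (props hw).1
    have he : w ≫ a.orbitMap o = (Groth.L14.Luna.restrict a w).orbitMap o := by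
      rw [comp_orbitMap, AlgGrp.Action.orbitMap, lift_restrict, Category.id_comp]
    have hpt : (pnt (k := k) 1 ≫ w) ≫ a.orbitMap o ≠ (1 : U1 ⟶ C) ≫ a.orbitMap o := fun e => by
      obtain ⟨q, hq⟩ := (orbitMap_eq_iff hX _ _).1 e
      refine hout hw hwB _ one_ne_pnt ⟨q⁻¹, ?_⟩
      rw [GrpObj.inv_comp, hq]; group
    obtain ⟨W, hW, hrange⟩ := Groth.L19.AlgGrpBasic.exists_open_orbit (Groth.L14.Luna.restrict a w) o
    have hcl : closure (Set.range (w ≫ a.orbitMap o).left) = Set.univ := by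
      by_contra hne'
      have hirr : IsIrreducible (closure (Set.range (w ≫ a.orbitMap o).left)) := by
        rw [← Set.image_univ]
        exact ((IrreducibleSpace.isIrreducible_univ _).image _ (w ≫ a.orbitMap o).left.continuous.continuousOn).closure
      have h1 := Groth.L03.Euler.topologicalKrullDim_add_one_le isClosed_closure
        (IrreducibleSpace.isIrreducible_univ X.left) (Set.subset_univ _) hne'
      let z0 : X.left := ptOf ((1 : U1 ⟶ C) ≫ a.orbitMap o)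
      have hz0 : z0 ∈ closure (Set.range (w ≫ a.orbitMap o).left) := subset_closure ⟨ptOf (1 : U1 ⟶ Red.Ga SK), by
        show ptOf ((1 : U1 ⟶ Red.Ga SK) ≫ w ≫ a.orbitMap o) = _
        rw [← Category.assoc, MonObj.one_comp]⟩
      have hne0 : ({z0} : Set X.left) ≠ closure (Set.range (w ≫ a.orbitMap o).left) := fun e => by
        have hz1 : ptOf ((pnt (k := k) 1 ≫ w) ≫ a.orbitMap o) ∈ closure (Set.range (w ≫ a.orbitMap o).left) :=
          subset_closure ⟨ptOf (pnt (k := k) 1), by rw [Category.assoc]; rfl⟩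
        rw [← e, Set.mem_singleton_iff] at hz1
        exact hpt (pt_ext hz1)
      have h2 := Groth.L03.Euler.topologicalKrullDim_add_one_le (isClosed_pt _) hirr
        (Set.singleton_subset_iff.2 hz0) hne0
      have h3 := Groth.L03.Euler.zero_le_topologicalKrullDim (Set.singleton_nonempty z0)
      have h4 : topologicalKrullDim (Set.univ : Set X.left) ≤ 1 :=
        Topology.IsEmbedding.subtypeVal.isInducing.topologicalKrullDim_le.trans hdim
      have h5 : ((1 : WithBot ℕ∞) + 1) ≤ 1 :=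
        le_trans (add_le_add ((le_add_of_nonneg_left h3).trans h2) le_rfl) (h1.trans h4)
      exact absurd h5 (by decide)
    rw [← he] at hrange
    rw [hcl, Set.inter_univ] at hrange
    exact hrange ▸ hW
  have hO := (hopen hu ⟨f, hf⟩).inter (hopen hu' ⟨f', hf'⟩)
  have hO' := hO.inter (isClosed_pt ((1 : U1 ⟶ C) ≫ a.orbitMap o)).isOpen_compl
  have hne' : ((Set.range (u ≫ a.orbitMap o).left ∩ Set.range (u' ≫ a.orbitMap o).left) ∩
      {ptOf ((1 : U1 ⟶ C) ≫ a.orbitMap o)}ᶜ).Nonempty := by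
    refine nonempty_preirreducible_inter hO (isClosed_pt _).isOpen_compl
      (nonempty_preirreducible_inter (hopen hu ⟨f, hf⟩) (hopen hu' ⟨f', hf'⟩) ⟨_, ptOf (1 : U1 ⟶ Red.Ga SK), rfl⟩
        ⟨_, ptOf (1 : U1 ⟶ Red.Ga SK), rfl⟩) ⟨ptOf ((pnt (k := k) 1 ≫ u) ≫ a.orbitMap o), fun e => ?_⟩
    obtain ⟨q, hq⟩ := (orbitMap_eq_iff hX _ _).1 (pt_ext e)
    refine hout hu ⟨f, hf⟩ _ one_ne_pnt ⟨q⁻¹, ?_⟩
    rw [GrpObj.inv_comp, hq]; group
  obtain ⟨z, ⟨hz1, hz2⟩, hz3⟩ := exists_pt_mem (X := X) hO'.isLocallyClosed hne'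
  obtain ⟨x, rfl⟩ := exists_pt_lift _ z hz1
  obtain ⟨y, hy⟩ := exists_pt_lift _ _ hz2
  have hx1 : x ≠ 1 := fun e => hz3 (by
    rw [e, ← Category.assoc (1 : U1 ⟶ Red.Ga SK) u (a.orbitMap o), MonObj.one_comp u]; rfl)
  have hy1 : y ≠ 1 := fun e => hz3 (by
    rw [← hy, e, ← Category.assoc (1 : U1 ⟶ Red.Ga SK) u' (a.orbitMap o), MonObj.one_comp u']; rfl)
  rw [← Category.assoc, ← Category.assoc] at hy
  obtain ⟨q, hq⟩ := (orbitMap_eq_iff hX _ _).1 hy
  have hs : ((y ≫ f')⁻¹ * (x ≫ f) : U1 ⟶ B) = 1 := by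
    refine eq_one_of_mem (Δ := Δ) hC hB hB' ht ht' hne p hT₀ hp v hV hker _ ?_ ⟨q, ?_⟩
    · rw [MonObj.mul_comp, GrpObj.inv_comp, Category.assoc, Category.assoc, hfp f (Or.inl hf), hfp f' (Or.inr hf'),
        MonObj.comp_one, MonObj.comp_one, inv_one, _root_.one_mul]
    · rw [hq, MonObj.mul_comp, GrpObj.inv_comp, Category.assoc, Category.assoc, hf, hf']
  have hxy : x ≫ u = y ≫ u' := by
    rw [← hf, ← hf', ← Category.assoc, ← Category.assoc, ← inv_mul_eq_one.1 hs]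
  obtain ⟨φ, hφ⟩ := exists_lift_of_points u' u fun z => by
    rcases eq_or_ne z 1 with rfl | hz
    · exact ⟨1, by rw [MonObj.one_comp, MonObj.one_comp]⟩
    obtain ⟨s, hs⟩ := exists_scale hu hx1 hz
    obtain ⟨y', hy', -⟩ := scale hu' s y
    exact ⟨y', by rw [hy', ← hxy, ← hs]⟩
  exact weight_eq hu hu' φ hφ

end Setup

end Groth.L14.Luna.SemiRank
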