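import Groth.Agent.L14.Luna.SemiRank.RootBorel
import Groth.Agent.L14.Luna.CentRed
import Groth.Agent.L14.Luna.Cartan
import Groth.Agent.L08.Borel.TorusLift
import Groth.Agent.L25.SplitSub.Image

/-!
# Roots on a line: centralizers of corank one subtori
-/

set_option autoImplicit false
set_option backward.isDefEq.respectTransparency.types false
set_option linter.style.haveILetI false
set_option linter.unusedSectionVars false
set_option maxHeartbeats 1000000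

universe u

open CategoryTheory CategoryTheory.Limits MonoidalCategory CartesianMonoidalCategory MonObj GrpObj AlgebraicGeometry
open Groth.L08.Borel Groth.L25

noncomputable section

namespace Groth.L14.Luna.SemiRank

variable {k : Type u} [Field k] [IsAlgClosed k]

local notation "U1" => 𝟙_ (Over (Spec (CommRingCat.of k)))
local notation "SK" => Spec (CommRingCat.of k)

variable {C T : Over (Spec (CommRingCat.of k))} [GrpObj C] [GrpObj T] [IsAffine C.left] [Smooth C.hom]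
  [ConnectedSpace C.left] {iT : T ⟶ C} {Δ : Setup C T iT}

/-- Only two weights of roots exist in semisimple rank one. -/
theorem Setup.not_three (hC : Red.IsReductiveOver k C) {u₀ u₁ u₂ : Red.Ga SK ⟶ C} {m₀ m₁ m₂ : Δ.M}
    (h₀ : Δ.IsRoot u₀ m₀) (h₁ : Δ.IsRoot u₁ m₁) (h₂ : Δ.IsRoot u₂ m₂) (h01 : m₀ ≠ m₁) (h02 : m₀ ≠ m₂)
    (h12 : m₁ ≠ m₂) : False := by
  obtain ⟨B₀, _, i₀, t₀, hB₀, ht₀, f₀, hf₀⟩ := Setup.exists_borel h₀
  obtain ⟨B₁, _, i₁, t₁, hB₁, ht₁, f₁, hf₁⟩ := Setup.exists_borel h₁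
  obtain ⟨B₂, _, i₂, t₂, hB₂, ht₂, f₂, hf₂⟩ := Setup.exists_borel h₂
  rcases Δ.trichotomy hB₀ hB₁ hB₂ ht₀ ht₁ ht₂ with ⟨e, he⟩ | ⟨e, he⟩ | ⟨e, he⟩
  · exact h01 (Setup.weight_eq_of_borel hC h₀ h₁ hB₁ ht₁ ⟨f₀ ≫ e.hom, by rw [Category.assoc, he, hf₀]⟩ ⟨f₁, hf₁⟩)
  · exact h02 (Setup.weight_eq_of_borel hC h₀ h₂ hB₂ ht₂ ⟨f₀ ≫ e.hom, by rw [Category.assoc, he, hf₀]⟩ ⟨f₂, hf₂⟩)
  · exact h12 (Setup.weight_eq_of_borel hC h₁ h₂ hB₂ ht₂ ⟨f₁ ≫ e.hom, by rw [Category.assoc, he, hf₁]⟩ ⟨f₂, hf₂⟩)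

/-- A Borel subgroup containing the torus contains exactly one of two root groups of different weights. -/
theorem Setup.borel_xor (hC : Red.IsReductiveOver k C) {u₀ u₁ : Red.Ga SK ⟶ C} {m₀ m₁ : Δ.M}
    (h₀ : Δ.IsRoot u₀ m₀) (h₁ : Δ.IsRoot u₁ m₁) (hne : m₀ ≠ m₁) {B : Over (Spec (CommRingCat.of k))} [GrpObj B]
    {iB : B ⟶ C} (hB : Red.IsBorelOver k iB) {t : T ⟶ B} (ht : t ≫ iB = iT) :
    Xor' (∃ f : Red.Ga SK ⟶ B, f ≫ iB = u₀) (∃ f : Red.Ga SK ⟶ B, f ≫ iB = u₁) := by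
  obtain ⟨B₀, _, i₀, t₀, hB₀, ht₀, f₀, hf₀⟩ := Setup.exists_borel h₀
  obtain ⟨B₁, _, i₁, t₁, hB₁, ht₁, f₁, hf₁⟩ := Setup.exists_borel h₁
  have hnot : (∃ f : Red.Ga SK ⟶ B, f ≫ iB = u₀) → ¬ ∃ f : Red.Ga SK ⟶ B, f ≫ iB = u₁ := fun h h' =>
    hne (Setup.weight_eq_of_borel hC h₀ h₁ hB ht h h')
  rcases Δ.trichotomy hB₀ hB₁ hB ht₀ ht₁ ht with ⟨e, he⟩ | ⟨e, he⟩ | ⟨e, he⟩
  · exact absurd (Setup.weight_eq_of_borel hC h₀ h₁ hB₁ ht₁ ⟨f₀ ≫ e.hom, by rw [Category.assoc, he, hf₀]⟩ ⟨f₁, hf₁⟩) hne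
  · have h : ∃ f : Red.Ga SK ⟶ B, f ≫ iB = u₀ := ⟨f₀ ≫ e.hom, by rw [Category.assoc, he, hf₀]⟩
    exact Or.inl ⟨h, hnot h⟩
  · have h : ∃ f : Red.Ga SK ⟶ B, f ≫ iB = u₁ := ⟨f₁ ≫ e.hom, by rw [Category.assoc, he, hf₁]⟩
    exact Or.inr ⟨h, fun h' => hnot h' h⟩

variable {G : Over (Spec (CommRingCat.of k))} [GrpObj G] {i : T ⟶ G} {M : Type} [AddCommGroup M]
  [Module.Finite ℤ M] [Module.Free ℤ M] {e : T ⟶ Red.DS (Spec (CommRingCat.of k)) M} [IsIso e] [IsMonHom e]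

/-- The centralizer of the kernel of a root and the roots on its line. -/
theorem exists_setup (hG : Red.IsReductiveOver k G) (hT : AGF.IsMaxTorus i) {a : M} (ha : a ≠ 0) :
    ∃ (C : Over (Spec (CommRingCat.of k))) (_ : GrpObj C) (c : C ⟶ G) (t : T ⟶ C) (_ : IsAffine C.left)
      (_ : Smooth C.hom) (_ : ConnectedSpace C.left) (Δ : Setup C T t) (emb : M →+ Δ.M),
      Red.IsReductiveOver k C ∧ t ≫ c = i ∧ Mono c ∧ IsMonHom c ∧ Function.Injective emb ∧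
      (∀ (B : Over (Spec (CommRingCat.of k))) [GrpObj B] (iB : B ⟶ G) (tB : T ⟶ B), Red.IsBorelOver k iB →
        tB ≫ iB = i → ∃ (D : Over (Spec (CommRingCat.of k))) (_ : GrpObj D) (dC : D ⟶ C) (dB : D ⟶ B) (tD : T ⟶ D),
          Red.IsBorelOver k dC ∧ tD ≫ dC = t ∧ IsPullback dC dB c iB) ∧
      ∀ (b : M) (u : Red.Ga SK ⟶ G), b ≠ 0 → (∃ p q : ℤ, p ≠ 0 ∧ p • b = q • a) →
        Red.IsRootHom i (e ≫ Red.chi SK b) u → ∃ v : Red.Ga SK ⟶ C, v ≫ c = u ∧ Δ.IsRoot v (emb b) := by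
  haveI := hG.1; haveI := hG.2.1; haveI := hG.2.2.1
  haveI := hT.1; haveI := hT.2.1
  obtain ⟨r, φ, a₀, hφ, ha₀, hker, -, hline⟩ := exists_line_proj ha
  haveI : IsMonHom (inv e) := inferInstanceAs (IsMonHom (asIso e).inv)
  haveI := SplitSub.mono_DSmap (S := SK) φ hφ
  let iS : Red.DS SK (Fin r → ℤ) ⟶ G := Red.DSmap SK φ ≫ inv e ≫ i
  haveI : IsMonHom iS := inferInstanceAs (IsMonHom (Red.DSmap SK φ ≫ inv e ≫ i))
  haveI : Mono iS := inferInstanceAs (Mono (Red.DSmap SK φ ≫ inv e ≫ i))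
  have hS := isTorus_ds SK r
  obtain ⟨C, gC, c, hc⟩ := exists_centralizer_torus iS hS
  obtain ⟨hcc, hCa, hCs, hCc, -, hcen⟩ := centralizer_props hS hc
  haveI := hcc; haveI := hCa; haveI := hCs; haveI := hCc; haveI := hc.1; haveI := hc.2.1
  obtain ⟨hTa, hTs, hTc, -, hcomm⟩ := torus_props hT.2.2.1
  obtain ⟨t, ht⟩ := (hc.2.2 T i).2 fun X x h => by
    show (x ≫ i) * (h ≫ Red.DSmap SK φ ≫ inv e ≫ i) = (h ≫ Red.DSmap SK φ ≫ inv e ≫ i) * (x ≫ i)
    simp only [← Category.assoc]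
    rw [← MonObj.mul_comp, ← MonObj.mul_comp, hcomm]
  haveI : IsMonHom t := isMonHom_of_comp_mono t c i ht
  haveI : Mono t := by haveI : Mono (t ≫ c) := ht ▸ hT.2.1; exact mono_of_mono t c
  have hC := isReductiveOver_centralizer hG hS hc
  have hmax : AGF.IsMaxTorus t := ⟨inferInstance, inferInstance, hT.2.2.1, fun T' _ j _ _ f hT' hf => by
    haveI : Mono (j ≫ c) := mono_comp _ _
    exact hT.2.2.2 T' (j ≫ c) f hT' (by rw [← Category.assoc, hf, ht])⟩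
  obtain ⟨Z, gZ, z, hz⟩ := exists_centralizer_torus t hT.2.2.1
  obtain ⟨-, -, -, -, ⟨tz, htz⟩, -⟩ := centralizer_props hT.2.2.1 hz
  haveI := isIso_of_centralizer_maxTorus hC hmax hz tz htz
  let Δ : Setup C T t :=
    { M := M
      e := e
      isIso_e := ‹_›
      isMonHom_e := ‹_›
      r := r
      φ := φ
      a₀ := a₀
      ne := ha₀
      ker := hker
      max := hmax
      self_centralizing := fun g hg => by
        obtain ⟨w, hw⟩ := (hz.2.2 U1 g).2 fun X x h => by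
          have h1 := congrArg (h ≫ ·) hg
          simp only [AGF.conjBy, MonObj.comp_mul, GrpObj.comp_inv, ← Category.assoc] at h1
          rw [toUnit_unique (h ≫ toUnit T) x] at h1
          rw [mul_inv_eq_iff_eq_mul] at h1
          exact h1
        exact ⟨w ≫ inv tz, by rw [Category.assoc, ← htz, IsIso.inv_hom_id_assoc, hw]⟩
      central := fun g => by
        rw [← cancel_mono c, conjBy_comp, Category.assoc, Category.assoc, ht]
        simp only [AGF.conjBy]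
        have h1 := hcen (Red.DS SK (Fin r → ℤ)) (toUnit _ ≫ g) (𝟙 _)
        rw [Category.id_comp, Category.assoc] at h1
        rw [h1, mul_inv_cancel_right] }
  refine ⟨C, gC, c, t, hCa, hCs, hCc, Δ, AddMonoidHom.id M, hC, ht, inferInstance, inferInstance, fun _ _ h => h,
    fun B _ iB tB hB htB => ?_, fun b u hb hba hu => ?_⟩
  · haveI := hB.1; haveI := hB.2.1
    haveI : Mono iB := Groth.L08.mono_of_closedImmersion iB
    have hpb : IsPullback (pullback.fst c iB) (pullback.snd c iB) c iB := IsPullback.of_hasPullback c iB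
    haveI : Mono (pullback.fst c iB) := inferInstance
    obtain ⟨gD, hD⟩ := exists_grpObj_pullback hpb
    letI := gD
    haveI := hD
    haveI : IsMonHom (pullback.snd c iB) :=
      isMonHom_of_comp_mono (pullback.snd c iB) iB (pullback.fst c iB ≫ c) hpb.w.symm
    have hDB := isBorelOver_inter iS hS hc hB (Red.DSmap SK φ ≫ inv e ≫ tB)
      (by rw [Category.assoc, Category.assoc, htB]) hpb
    exact ⟨_, gD, pullback.fst c iB, pullback.snd c iB, hpb.lift t tB (by rw [ht, htB]), hDB, hpb.lift_fst _ _ _, hpb⟩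
  · haveI := hu.1; haveI := hu.2.1
    obtain ⟨v, hv⟩ := (hc.2.2 _ u).2 fun X x h => by
      obtain ⟨y, hy, hyv⟩ := hu.2.2 X (h ≫ Red.DSmap SK φ ≫ inv e) x
      have e1 : Red.gmFn ((h ≫ Red.DSmap SK φ ≫ inv e) ≫ e ≫ Red.chi SK b) = 1 := by
        simp only [Category.assoc, IsIso.inv_hom_id_assoc]
        rw [← Category.assoc, gmFn_chi, SplitSub.char_DSmap]
        show DSPts.char h (Multiplicative.ofAdd (φ b)) = 1
        rw [hline b hba, ofAdd_zero, map_one]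
      have e2 : y = x := GaPts.gaFn_injective (by show Red.gaFn y = Red.gaFn x; rw [hyv, e1, _root_.one_mul])
      rw [e2, eq_mul_inv_iff_mul_eq] at hy
      simpa only [iS, Category.assoc] using hy
    refine ⟨v, hv, ⟨isMonHom_of_comp_mono v c u hv, ?_, fun X s x => ?_⟩, hb⟩
    · haveI : IsClosedImmersion (v.left ≫ c.left) := by rw [← Over.comp_left, hv]; infer_instance
      exact IsClosedImmersion.of_comp v.left c.left
    · obtain ⟨y, hy, hyv⟩ := hu.2.2 X s x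
      refine ⟨y, ?_, hyv⟩
      rw [← cancel_mono c]
      simpa only [MonObj.mul_comp, GrpObj.inv_comp, Category.assoc, hv, ht] using hy

/-- No double of a root is a root, and opposite roots separate in Borel subgroups. -/
theorem not_double (hG : Red.IsReductiveOver k G) (hT : AGF.IsMaxTorus i) {a b : M} {u v w : Red.Ga SK ⟶ G}
    (ha : a ≠ 0) (hb : b = (2 : ℤ) • a) (hu : Red.IsRootHom i (e ≫ Red.chi SK a) u)
    (hv : Red.IsRootHom i (e ≫ Red.chi SK b) v) (hw : Red.IsRootHom i (e ≫ Red.chi SK (-a)) w) : False := by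
  haveI : IsAddTorsionFree M := .of_isTorsionFree ℤ M
  obtain ⟨C, _, c, t, _, _, _, Δ, emb, hC, -, -, -, hemb, -, hroots⟩ := exists_setup (e := e) hG hT ha
  have hb0 : b ≠ 0 := fun h => ha ((smul_eq_zero.1 (hb.symm.trans h)).resolve_left two_ne_zero)
  obtain ⟨u', -, hu'⟩ := hroots a u ha ⟨1, 1, one_ne_zero, rfl⟩ hu
  obtain ⟨v', -, hv'⟩ := hroots b v hb0 ⟨1, 2, one_ne_zero, by rw [one_smul, hb]⟩ hv
  obtain ⟨w', -, hw'⟩ := hroots (-a) w (neg_ne_zero.2 ha) ⟨1, -1, one_ne_zero, by simp⟩ hw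
  have key : ∀ p q : ℤ, p ≠ q → p • a ≠ q • a := fun p q hpq h => hpq (smul_left_injective ℤ ha h)
  refine Setup.not_three hC hu' hv' hw' (fun h => ?_) (fun h => ?_) fun h => ?_
  · exact key 1 2 (by norm_num) (by rw [one_smul, ← hb]; exact hemb h)
  · exact key 1 (-1) (by norm_num) (by rw [one_smul, neg_one_smul]; exact hemb h)
  · exact key 2 (-1) (by norm_num) (by rw [← hb, neg_one_smul]; exact hemb h)

/-- A Borel subgroup containing the torus contains exactly one of two opposite root groups. -/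
theorem borel_xor (hG : Red.IsReductiveOver k G) (hT : AGF.IsMaxTorus i) {a : M} {u v : Red.Ga SK ⟶ G}
    (ha : a ≠ 0) (hu : Red.IsRootHom i (e ≫ Red.chi SK a) u) (hv : Red.IsRootHom i (e ≫ Red.chi SK (-a)) v)
    {B : Over (Spec (CommRingCat.of k))} [GrpObj B] {iB : B ⟶ G} (hB : Red.IsBorelOver k iB) {tB : T ⟶ B}
    (htB : tB ≫ iB = i) :
    Xor' (∃ f : Red.Ga SK ⟶ B, f ≫ iB = u) (∃ f : Red.Ga SK ⟶ B, f ≫ iB = v) := by
  haveI : IsAddTorsionFree M := .of_isTorsionFree ℤ M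
  obtain ⟨C, _, c, t, _, _, _, Δ, emb, hC, -, hmono, -, hemb, hborel, hroots⟩ := exists_setup (e := e) hG hT ha
  obtain ⟨D, _, dC, dB, tD, hD, htD, hpb⟩ := hborel B iB tB hB htB
  obtain ⟨u', hu'c, hu'⟩ := hroots a u ha ⟨1, 1, one_ne_zero, rfl⟩ hu
  obtain ⟨v', hv'c, hv'⟩ := hroots (-a) v (neg_ne_zero.2 ha) ⟨1, -1, one_ne_zero, by simp⟩ hv
  have hne : emb a ≠ emb (-a) := fun h => ha (self_eq_neg.1 (hemb h))
  have hiff : ∀ {x : Red.Ga SK ⟶ G} {x' : Red.Ga SK ⟶ C}, x' ≫ c = x →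
      ((∃ f : Red.Ga SK ⟶ D, f ≫ dC = x') ↔ ∃ f : Red.Ga SK ⟶ B, f ≫ iB = x) := fun {x x'} hx =>
    ⟨fun ⟨f, hf⟩ => ⟨f ≫ dB, by rw [Category.assoc, ← hpb.w, ← Category.assoc, hf, hx]⟩,
      fun ⟨f, hf⟩ => ⟨hpb.lift x' f (hx.trans hf.symm), hpb.lift_fst _ _ _⟩⟩
  have h := Setup.borel_xor hC hu' hv' hne hD htD
  rwa [hiff hu'c, hiff hv'c] at h

end Groth.L14.Luna.SemiRank
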