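import Groth.Agent.L14.Luna.SemiRank.Main
import Groth.Agent.L14.Chev.Cell.Reduced
import Groth.Agent.L14.RankOne.SemidirectMono

/-!
# Roots of split reductive groups on geometric fibres
-/

set_option autoImplicit false
set_option backward.isDefEq.respectTransparency.types false
set_option linter.style.haveILetI false
set_option linter.unusedSectionVars false
set_option maxHeartbeats 1000000

universe u

open CategoryTheory CategoryTheory.Limits MonoidalCategory CartesianMonoidalCategory MonObj GrpObj AlgebraicGeometry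
open Groth.L25

noncomputable section

namespace Groth.L14.Luna.SemiRank

section Reduced

variable {κ M N : Type} [Finite κ] [AddCommGroup M] [AddCommGroup N] [Module.Free ℤ M] [Module.Free ℤ N]

/-- A root datum without doubled roots is reduced. -/
theorem isReduced_of_two_smul (P : RootPairing κ ℤ M N) (h : ∀ c, (2 : ℤ) • P.root c ∉ Set.range P.root) :
    P.IsReduced := ⟨fun i k hik => by
  haveI : IsAddTorsionFree M := .of_isTorsionFree ℤ M
  have h2 := Chart.RootCombo.two_zsmul_of_not_indep P hik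
  have hprod := (Chart.RootCombo.not_indep_iff P).1 hik
  have hmem := Chart.RootCombo.pairs P k i
  simp only [Set.mem_insert_iff, Set.mem_singleton_iff, Prod.mk.injEq] at hmem
  have h4 : P.pairing k i = 2 ∨ P.pairing k i = -2 ∨ P.pairing k i = 1 ∨ P.pairing k i = -1 ∨ P.pairing k i = 4 ∨
      P.pairing k i = -4 := by
    rcases hmem with h | h | h | h | h | h | h | h | h | h | h | h | h | h | h | h | h <;>
      rw [h.1] <;> rw [h.1, h.2] at hprod <;> omega
  have hcancel : ∀ x y : M, (2 : ℤ) • x = (2 : ℤ) • y → x = y := fun x y e => smul_right_injective M two_ne_zero e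
  rcases h4 with e | e | e | e | e | e <;> rw [e] at h2
  · exact Or.inl (hcancel _ _ h2).symm
  · refine Or.inr ?_
    have e' : P.root k = -P.root i := hcancel _ _ (by rw [h2, neg_smul, smul_neg])
    rw [e', neg_neg]
  · rw [one_smul] at h2
    exact absurd ⟨i, h2.symm⟩ (h k)
  · rw [neg_one_smul] at h2
    exact absurd ⟨P.reflectionPerm i i, by rw [Groth.L24.RootD.root_neg, h2]⟩ (h k)
  · have e' : P.root k = (2 : ℤ) • P.root i := hcancel _ _ (by rw [h2, smul_smul]; norm_num)
    exact absurd ⟨k, e'⟩ (h i)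
  · have e' : P.root (P.reflectionPerm k k) = (2 : ℤ) • P.root i := hcancel _ _ (by
      rw [Groth.L24.RootD.root_neg, smul_neg, h2, smul_smul, ← neg_smul]; norm_num)
    exact absurd ⟨_, e'⟩ (h i)⟩

end Reduced

variable {S : Scheme.{u}} {P : Scheme.{u}}

theorem isMonHom_map' (q : P ⟶ S) {A B : Over S} [GrpObj A] [GrpObj B] (f : A ⟶ B) [IsMonHom f] :
    @IsMonHom _ _ _ (Red.bc q A) (Red.bc q B) _ _ ((Over.pullback q).map f) :=
  ((Over.pullback q).mapGrp.map (Grp.homMk'' (A := Grp.mk A) (B := Grp.mk B) f (IsMonHom.one_hom f)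
    (IsMonHom.mul_hom f))).hom.isMonHom_hom

theorem toBase_inj (q : P ⟶ S) {X : Over S} {Y : Over P} {a b : Y ⟶ Red.bc q X}
    (h : NilAction.toBase q a = NilAction.toBase q b) : a = b := by
  rw [← NilAction.ofBase_toBase q a, h, NilAction.ofBase_toBase]

/-- The base change of the additive group. -/
def bcGa (g : P ⟶ S) : Red.bc g (Red.Ga S) ≅ Red.Ga P :=
  ActBC.bcCompIso g (IsTerminal.from specULiftZIsTerminal S) Red.GaZ (specULiftZIsTerminal.hom_ext _ _)

theorem isMonHom_bcGa (g : P ⟶ S) : IsMonHom (bcGa g).inv := by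
  haveI : IsMonHom (bcGa g).hom := ActBC.bcCompIso_isMonHom (G := Red.GaZ) _ _ _
  infer_instance

theorem gaFn_bcGa (g : P ⟶ S) {T : Over P} (x : T ⟶ Red.bc g (Red.Ga S)) :
    Red.gaFn (x ≫ (bcGa g).hom) = Red.gaFn (NilAction.toBase g x) := by
  have h : (x ≫ (bcGa g).hom).left ≫ pullback.fst Red.GaZ.hom (GmPts.toBaseZ P) =
      (NilAction.toBase g x).left ≫ pullback.fst Red.GaZ.hom (GmPts.toBaseZ S) := by
    simp only [NilAction.toBase, Over.comp_left, Over.homMk_left, Category.assoc]
    exact congrArg (x.left ≫ ·) (ActBC.bcCompIso_hom_left_fst g _ Red.GaZ _)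
  exact congrArg (fun φ : T.left ⟶ _ => φ.appTop Red.gaCoord) h

theorem gmFn_chi' {M : Type} [AddCommGroup M] {X : Over S} (t : X ⟶ Red.DS S M) (m : M) :
    Red.gmFn (t ≫ Red.chi S m) = DSPts.char t (Multiplicative.ofAdd m) := by
  have h := DFunLike.congr_fun (SplitSub.char_DSmap t (zmultiplesHom M m : ℤ →+ M)) (Multiplicative.ofAdd 1)
  refine Eq.trans ?_ (h.trans ?_)
  · rfl
  · show DSPts.char t (Multiplicative.ofAdd ((zmultiplesHom M m) 1)) = _
    rw [zmultiplesHom_apply, one_zsmul]

section Fibre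

variable {G : Over S} [GrpObj G] (D : Red.SplitRed G) (s : S)

local notation "gs" => Red.geomPt s
local notation "SΩ" => Spec (CommRingCat.of (AlgebraicClosure (S.residueField s)))

attribute [local instance] Red.SplitRed.grpT Red.SplitRed.acgM Red.SplitRed.finiteM Red.SplitRed.freeM

/-- The torus of a geometric fibre. -/
abbrev TΩ : Over SΩ := Red.bc gs D.T

/-- The inclusion of the torus of a geometric fibre. -/
abbrev iΩ : TΩ D s ⟶ Red.geomFibre s G := (Over.pullback gs).map D.i

/-- The splitting of the torus of a geometric fibre. -/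
def eΩ : TΩ D s ⟶ Red.DS SΩ D.M := (Over.pullback gs).map D.split.hom.hom.hom ≫ (SplitSub.bcDS gs).hom

/-- The root homomorphism of a geometric fibre. -/
def uΩ (c : D.idx) : Red.Ga SΩ ⟶ Red.geomFibre s G := (bcGa gs).inv ≫ (Over.pullback gs).map (D.u c)

theorem isIso_eΩ : IsIso (eΩ D s) := by
  haveI : IsIso D.split.hom.hom.hom :=
    ⟨D.split.inv.hom.hom, congrArg (fun f => f.hom.hom) D.split.hom_inv_id, congrArg (fun f => f.hom.hom) D.split.inv_hom_id⟩
  exact inferInstanceAs (IsIso ((Over.pullback gs).map D.split.hom.hom.hom ≫ (SplitSub.bcDS gs).hom))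

theorem isMonHom_eΩ : IsMonHom (eΩ D s) := by
  haveI : IsMonHom D.split.hom.hom.hom := D.split.hom.hom.isMonHom_hom
  haveI := isMonHom_map' gs D.split.hom.hom.hom
  exact inferInstanceAs (IsMonHom ((Over.pullback gs).map D.split.hom.hom.hom ≫ (SplitSub.bcDS gs).hom))

theorem isMaxTorus_iΩ : AGF.IsMaxTorus (iΩ D s) := by
  obtain ⟨hm, hmono, hT, hmax⟩ := D.maximalTorus
  haveI := hm; haveI := hmono
  haveI := isMonHom_map' gs D.i
  exact ⟨inferInstance, inferInstance, Groth.L25.Locus.isTorus_bc hT gs, fun T' _ j _ _ f hT' hf =>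
    hmax s T' j f hT' hf⟩

theorem isRootHom_uΩ (c : D.idx) :
    Red.IsRootHom (iΩ D s) (eΩ D s ≫ Red.chi SΩ (D.P.root c)) (uΩ D s c) := by
  obtain ⟨hum, huc, heq⟩ := D.rootHom c
  haveI := hum; haveI := huc
  haveI := isMonHom_map' gs (D.u c)
  haveI := isMonHom_bcGa gs
  haveI : IsIso (bcGa gs).inv.left := (Over.forget _).map_isIso _
  haveI : IsClosedImmersion ((Over.pullback gs).map (D.u c)).left :=
    MorphismProperty.overPullbackMap (P := @IsClosedImmersion) _ _ huc
  refine ⟨inferInstanceAs (IsMonHom ((bcGa gs).inv ≫ (Over.pullback gs).map (D.u c))),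
    inferInstanceAs (IsClosedImmersion ((bcGa gs).inv.left ≫ ((Over.pullback gs).map (D.u c)).left)), fun X t x => ?_⟩
  obtain ⟨y, hy, hyv⟩ := heq (Over.mk (X.hom ≫ gs)) (NilAction.toBase gs t) (NilAction.toBase gs (x ≫ (bcGa gs).inv))
  refine ⟨NilAction.ofBase gs y ≫ (bcGa gs).hom, ?_, ?_⟩
  · refine toBase_inj gs ?_
    have hinv : ∀ z : X ⟶ Red.geomFibre s G, NilAction.toBase gs z⁻¹ = (NilAction.toBase gs z)⁻¹ := fun z =>
      map_inv (MonoidHom.mk' (NilAction.toBase gs : (X ⟶ Red.geomFibre s G) → _) (NilAction.toBase_mul gs)) z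
    simp only [uΩ, Category.assoc, Iso.hom_inv_id_assoc, NilAction.toBase_mul, hinv]
    rw [← Category.assoc x, Groth.L14.RankOne.toBase_comp_map, Groth.L14.RankOne.toBase_comp_map,
      Groth.L14.RankOne.toBase_comp_map, NilAction.toBase_ofBase, hy]
  · rw [gaFn_bcGa, NilAction.toBase_ofBase, hyv]
    congr 1
    · rw [eΩ, ← Category.assoc t, gmFn_chi', ← Category.assoc t, SplitSub.char_bcDS,
        Groth.L14.RankOne.toBase_comp_map, ← gmFn_chi', Category.assoc]
    · rw [← gaFn_bcGa, Category.assoc, Iso.inv_hom_id, Category.comp_id]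

include D in
/-- **The root datum of a split reductive group is reduced.** -/
theorem isReduced_splitRed [Nonempty S] : D.P.IsReduced := by
  haveI : Finite D.idx := Finite.of_fintype _
  refine isReduced_of_two_smul D.P fun c => ?_
  rintro ⟨d, hd⟩
  obtain ⟨s⟩ := ‹Nonempty S›
  haveI := isIso_eΩ D s; haveI := isMonHom_eΩ D s
  refine not_double (e := eΩ D s) (D.reductive.2.2 s) (isMaxTorus_iΩ D s) (D.P.ne_zero c) hd (isRootHom_uΩ D s c)
    (isRootHom_uΩ D s d) (w := uΩ D s (D.P.reflectionPerm c c)) ?_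
  rw [← Groth.L24.RootD.root_neg c]
  exact isRootHom_uΩ D s _

end Fibre

end Groth.L14.Luna.SemiRank
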