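import Groth.Agent.L24.RootD.CoSimple
import Groth.Agent.L24.RootD.Exists
import Groth.Prelude.Def_RedSub

/-!
# Bases of reduced root data over the integers
-/

set_option autoImplicit false
set_option linter.style.haveILetI false
set_option backward.isDefEq.respectTransparency.types false
set_option linter.unusedSectionVars false

open Groth.L24.RootD

namespace Groth.L14.Luna.SemiRank

variable {κ M N : Type} [Finite κ] [AddCommGroup M] [AddCommGroup N] [Module.Free ℤ M] [Module.Free ℤ N]
  {P : RootPairing κ ℤ M N}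

theorem isCrys (P : RootPairing κ ℤ M N) : P.IsCrystallographic := ⟨fun i j => ⟨P.pairing i j, rfl⟩⟩

theorem isIndiv_of_reduced [P.IsReduced] (i : κ) : _root_.RootD.IsIndiv P i := by
  intro j h
  haveI : IsAddTorsionFree M := .of_isTorsionFree ℤ M
  have hdep : ¬ LinearIndependent ℤ ![P.root j, P.root i] := fun hli => by
    have := (LinearIndependent.pair_iff.1 hli 2 (-1) (by rw [h, neg_one_smul, add_neg_cancel])).1
    omega
  rcases RootPairing.IsReduced.eq_or_eq_neg (P := P) j i hdep with e | e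
  · rw [← e] at h
    exact absurd (smul_left_injective ℤ (P.ne_zero j) (h.trans (one_smul ℤ _).symm)) (by norm_num)
  · have e' : P.root i = -P.root j := by rw [e, neg_neg]
    rw [e'] at h
    exact absurd (smul_left_injective ℤ (P.ne_zero j) (h.trans (neg_one_smul ℤ _).symm)) (by norm_num)

/-- A system of simple roots of a reduced root datum is a base. -/
theorem exists_base_of_isSimple [P.IsReduced] {Δ : Set κ} (hΔ : IsSimple P Δ) :
    ∃ b : P.Base, (b.support : Set κ) = Δ := by
  classical
  haveI := isCrys P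
  haveI : Fintype κ := Fintype.ofFinite κ
  haveI : IsAddTorsionFree M := .of_isTorsionFree ℤ M
  haveI : IsAddTorsionFree N := .of_isTorsionFree ℤ N
  have hflip : ∀ i : κ, _root_.RootD.IsIndiv P.flip i := by
    intro i j h
    have h' := P.flip.smul_coroot_eq_of_root_eq_smul j i (2 : ℤ) h.symm
    exact isIndiv_of_reduced (P := P) j i h'
  have hco := isSimple_coroots hΔ
  have hset : {j : κ | ∃ i ∈ Δ, (j = i ∧ _root_.RootD.IsIndiv P.flip i) ∨ (2 : ℤ) • P.coroot j = P.coroot i} = Δ := by
    ext j
    constructor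
    · rintro ⟨i, hi, ⟨rfl, -⟩ | h⟩
      · exact hi
      · exact absurd h (hflip i j)
    · exact fun h => ⟨j, h, Or.inl ⟨rfl, hflip j⟩⟩
  rw [hset] at hco
  exact ⟨{
    support := Δ.toFinite.toFinset
    linearIndepOn_root := by rw [Set.Finite.coe_toFinset]; exact hΔ.linInd
    linearIndepOn_coroot := by rw [Set.Finite.coe_toFinset]; exact hco.linInd
    root_mem_or_neg_mem := fun i => by rw [Set.Finite.coe_toFinset]; exact hΔ.mem_or i
    coroot_mem_or_neg_mem := fun i => by rw [Set.Finite.coe_toFinset]; exact hco.mem_or i },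
    Set.Finite.coe_toFinset _⟩

/-- A closed set of roots without opposite roots lies in a system of positive roots. -/
theorem exists_isPosSys_ge {R' : Set κ} (hcl : _root_.RootD.IsClosedSub P R') (hd : Disj P R') :
    ∃ S, _root_.RootD.IsPosSys P S ∧ R' ⊆ S := by
  classical
  haveI := isCrys P
  haveI : IsAddTorsionFree M := .of_isTorsionFree ℤ M
  obtain ⟨S, hRS, hS⟩ := (Set.toFinite {S : Set κ | _root_.RootD.IsClosedSub P S ∧ Disj P S}).exists_le_maximal
    (show R' ∈ {S : Set κ | _root_.RootD.IsClosedSub P S ∧ Disj P S} from ⟨hcl, hd⟩)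
  obtain ⟨hSc, hSd⟩ := hS.prop
  have hpoint : ∀ x : M, x ∈ _root_.RootD.natSpan P S → -x ∈ _root_.RootD.natSpan P S → x = 0 := by
    intro x hx hx'
    obtain ⟨l, hl, rfl⟩ := mem_natSpan_iff.1 hx
    obtain ⟨l', hl', e⟩ := mem_natSpan_iff.1 hx'
    have h := rsum_eq_zero hSc hSd (l + l') (fun a ha => (Multiset.mem_add.1 ha).elim (hl a) (hl' a)) (by
      rw [rsum, Multiset.map_add, Multiset.sum_add]
      change rsum P l + rsum P l' = 0
      rw [e, add_neg_cancel])
    rw [(add_eq_zero.1 h).1]; simp [rsum]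
  have key : ∀ k, k ∉ S → ∃ q : ℕ, 0 < q ∧ -((q : ℤ) • P.root k) ∈ _root_.RootD.natSpan P S := by
    intro k hk
    let T : Set κ := {i | P.root i ∈ _root_.RootD.natSpan P (insert k S)}
    have hTc : _root_.RootD.IsClosedSub P T := fun i j l hi hj h => by
      show P.root l ∈ _root_.RootD.natSpan P (insert k S); rw [h]; exact add_mem hi hj
    have hST : S ⊆ T := fun i hi => root_mem_natSpan (Set.mem_insert_of_mem _ hi)
    have hTd : ¬ Disj P T := fun h => hk (hS.2 ⟨hTc, h⟩ hST (root_mem_natSpan (Set.mem_insert _ _)))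
    simp only [Disj, not_forall, not_not] at hTd
    obtain ⟨i, hi, hi'⟩ := hTd
    have split : ∀ x : M, x ∈ _root_.RootD.natSpan P (insert k S) → ∃ q : ℕ, ∃ s ∈ _root_.RootD.natSpan P S,
        x = s + (q : ℤ) • P.root k := by
      intro x hx
      unfold _root_.RootD.natSpan at hx
      induction hx using AddSubmonoid.closure_induction with
      | mem y hy =>
        obtain ⟨j, hj, rfl⟩ := hy
        rcases hj with rfl | hj
        · exact ⟨1, 0, zero_mem _, by simp⟩
        · exact ⟨0, P.root j, root_mem_natSpan hj, by simp⟩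
      | zero => exact ⟨0, 0, zero_mem _, by simp⟩
      | add y z _ _ hy hz =>
        obtain ⟨q, s, hs, rfl⟩ := hy
        obtain ⟨q', s', hs', rfl⟩ := hz
        exact ⟨q + q', s + s', add_mem hs hs', by rw [Nat.cast_add, add_smul]; abel⟩
    obtain ⟨q, s, hs, e⟩ := split _ hi
    obtain ⟨q', s', hs', e'⟩ := split _ hi'
    rw [Groth.L24.RootD.root_neg, e, neg_add] at e'
    have h0 : -(((q + q' : ℕ) : ℤ) • P.root k) = s + s' := by
      rw [Nat.cast_add, add_smul, eq_sub_of_add_eq (show s' + (q' : ℤ) • P.root k = -s + -((q : ℤ) • P.root k) from e'.symm)]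
      abel
    refine ⟨q + q', Nat.pos_of_ne_zero fun h => ?_, h0 ▸ add_mem hs hs'⟩
    obtain ⟨rfl, rfl⟩ : q = 0 ∧ q' = 0 := by omega
    simp only [Nat.cast_zero, zero_smul, add_zero, zero_smul, neg_zero] at e h0
    exact P.ne_zero i (e.trans (hpoint s hs (by rw [← eq_neg_of_add_eq_zero_right h0.symm]; exact hs')))
  refine ⟨S, isPosSys_of_closed hSd (fun k => ?_) hSc, hRS⟩
  by_contra h
  push Not at h
  obtain ⟨q, hq, h1⟩ := key k h.1
  obtain ⟨q', hq', h2⟩ := key _ h.2
  rw [Groth.L24.RootD.root_neg, smul_neg, neg_neg] at h2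
  have h3 : ((q * q' : ℕ) : ℤ) • P.root k ∈ _root_.RootD.natSpan P S := by
    rw [Nat.cast_mul, mul_smul, natCast_zsmul]; exact nsmul_mem h2 q
  have h4 : -(((q * q' : ℕ) : ℤ) • P.root k) ∈ _root_.RootD.natSpan P S := by
    rw [Nat.cast_mul, mul_comm, mul_smul, natCast_zsmul, ← smul_neg]; exact nsmul_mem h1 q'
  exact P.ne_zero k ((smul_eq_zero.1 (hpoint _ h3 h4)).resolve_left (by positivity))

/-- A closed set of roots without opposite roots of a reduced root datum lies in the positive roots of a base. -/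
theorem exists_base_ge [P.IsReduced] {R' : Set κ} (hcl : _root_.RootD.IsClosedSub P R') (hd : Disj P R') :
    ∃ b : P.Base, R' ⊆ RedSub.posRoots P b := by
  haveI := isCrys P
  haveI : Fintype κ := Fintype.ofFinite κ
  obtain ⟨S, hS, hRS⟩ := exists_isPosSys_ge hcl hd
  obtain ⟨b, hb⟩ := exists_base_of_isSimple (isSimple_simples hS)
  refine ⟨b, fun k hk => ?_⟩
  show P.root k ∈ AddSubmonoid.closure (P.root '' (b.support : Set κ))
  rw [hb]
  exact mem_natSpan_simples (isClosedSub_of_isPosSys hS) hS.disjoint (hRS hk)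

end Groth.L14.Luna.SemiRank
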