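import Groth.Agent.L14.Luna.SemiRank.Lattice
import Groth.Agent.L14.Luna.TorusFixed
import Groth.Agent.L14.Luna.Radical
import Groth.Agent.L08.Borel.BorelNorm
import Groth.Agent.L08.Borel.Weyl
import Groth.Agent.L25.TorusTorsion
import Groth.Agent.S14754

/-!
# A centralizer of a corank one subtorus has at most two Borel subgroups containing the torus
-/

set_option autoImplicit false
set_option backward.isDefEq.respectTransparency.types false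
set_option linter.style.haveILetI false
set_option linter.unusedSectionVars false
set_option maxHeartbeats 1000000

universe u

open CategoryTheory CategoryTheory.Limits MonoidalCategory CartesianMonoidalCategory MonObj GrpObj AlgebraicGeometry
open Groth.L08.Borel

noncomputable section

namespace Groth.L14.Luna.SemiRank

variable {k : Type u} [Field k] [IsAlgClosed k]

local notation "U1" => 𝟙_ (Over (Spec (CommRingCat.of k)))
local notation "SK" => Spec (CommRingCat.of k)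

/-- Data of a group with a self centralizing maximal torus centralizing a subtorus of corank one. -/
structure Setup (C T : Over (Spec (CommRingCat.of k))) [GrpObj C] [GrpObj T] (iT : T ⟶ C) where
  M : Type
  [acg : AddCommGroup M]
  [fin : Module.Finite ℤ M]
  [free : Module.Free ℤ M]
  e : T ⟶ Red.DS SK M
  isIso_e : IsIso e
  isMonHom_e : IsMonHom e
  r : ℕ
  φ : M →+ (Fin r → ℤ)
  a₀ : M
  ne : a₀ ≠ 0
  ker : ∀ x, φ x = 0 ↔ ∃ q : ℤ, x = q • a₀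
  max : AGF.IsMaxTorus iT
  self_centralizing : ∀ z : U1 ⟶ C, AGF.conjBy z iT = iT → ∃ t : U1 ⟶ T, t ≫ iT = z
  central : ∀ z : U1 ⟶ C, AGF.conjBy z (Red.DSmap SK φ ≫ inv e ≫ iT) = Red.DSmap SK φ ≫ inv e ≫ iT

attribute [instance] Setup.acg Setup.fin Setup.free Setup.isIso_e Setup.isMonHom_e

variable {C T : Over (Spec (CommRingCat.of k))} [GrpObj C] [GrpObj T] [IsAffine C.left] [Smooth C.hom]
  [ConnectedSpace C.left] {iT : T ⟶ C}

namespace Setup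

variable (Δ : Setup C T iT)

/-- `θ` describes the action of a point on the torus. -/
def Acts (n : U1 ⟶ C) (θ : Δ.M →+ Δ.M) : Prop :=
  AGF.conjBy n (inv Δ.e ≫ iT) = Red.DSmap SK θ ≫ inv Δ.e ≫ iT

theorem exists_acts {n : U1 ⟶ C} {τ : T ≅ T} (hτ : τ.hom ≫ iT = AGF.conjBy n iT) :
    ∃ θ θ', Δ.Acts n θ ∧ Δ.Acts n⁻¹ θ' ∧ θ'.comp θ = AddMonoidHom.id _ := by
  haveI := Δ.max.1; haveI := Δ.max.2.1
  haveI : IsMonHom τ.hom := by
    haveI := isMonHom_conjBy n iT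
    exact isMonHom_of_comp_mono τ.hom iT _ hτ
  have hτ' : τ.inv ≫ iT = AGF.conjBy n⁻¹ iT := by
    rw [Iso.inv_comp_eq, comp_conjBy, hτ, conjBy_conjBy, inv_mul_cancel, conjBy_one]
  haveI : IsMonHom τ.inv := by
    haveI := isMonHom_conjBy n⁻¹ iT
    exact isMonHom_of_comp_mono τ.inv iT _ hτ'
  haveI : Monoid.FG (Multiplicative Δ.M) := AddMonoid.fg_iff_mul_fg.1
    (AddGroup.fg_iff_addMonoid_fg.1 (Module.Finite.iff_addGroup_fg.1 inferInstance))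
  haveI : IsMonHom (inv Δ.e) := inferInstanceAs (IsMonHom (asIso Δ.e).inv)
  obtain ⟨θ, hθ⟩ := Groth.Agent.S14754.exists_DSmap (k := k) (inv Δ.e ≫ τ.hom ≫ Δ.e)
  obtain ⟨θ', hθ'⟩ := Groth.Agent.S14754.exists_DSmap (k := k) (inv Δ.e ≫ τ.inv ≫ Δ.e)
  refine ⟨θ, θ', ?_, ?_, Groth.Agent.S14754.DSmap_injective (k := k) ?_⟩
  · rw [Acts, ← hθ, ← comp_conjBy, ← hτ]; simp
  · rw [Acts, ← hθ', ← comp_conjBy, ← hτ']; simp
  · rw [← Groth.L25.TorusTorsion.DSmap_comp, ← hθ, ← hθ', Groth.L25.TorusTorsion.DSmap_id]; simp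

theorem acts_mul {n n' : U1 ⟶ C} {θ θ' : Δ.M →+ Δ.M} (h : Δ.Acts n θ) (h' : Δ.Acts n' θ') :
    Δ.Acts (n * n') (θ'.comp θ) := by
  rw [Acts] at *
  rw [← conjBy_conjBy, h', ← comp_conjBy, h, ← Groth.L25.TorusTorsion.DSmap_comp, Category.assoc]

theorem acts_one : Δ.Acts 1 (AddMonoidHom.id _) := by
  rw [Acts, conjBy_one, Groth.L25.TorusTorsion.DSmap_id, Category.id_comp]

theorem acts_unique {n : U1 ⟶ C} {θ θ' : Δ.M →+ Δ.M} (h : Δ.Acts n θ) (h' : Δ.Acts n θ') : θ = θ' := by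
  haveI := Δ.max.2.1
  refine Groth.Agent.S14754.DSmap_injective (k := k) ?_
  rw [← cancel_mono (inv Δ.e ≫ iT), ← h, ← h']

theorem acts_fix {n : U1 ⟶ C} {θ : Δ.M →+ Δ.M} (h : Δ.Acts n θ) : Δ.φ.comp θ = Δ.φ := by
  haveI := Δ.max.2.1
  refine Groth.Agent.S14754.DSmap_injective (k := k) ?_
  rw [← cancel_mono (inv Δ.e ≫ iT), ← Groth.L25.TorusTorsion.DSmap_comp, Category.assoc, ← h, comp_conjBy, Δ.central]

theorem acts_pow {n : U1 ⟶ C} {θ : Δ.M →+ Δ.M} (h : Δ.Acts n θ) :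
    ∀ m : ℕ, ∃ θₘ, Δ.Acts (n ^ m) θₘ ∧ ∀ x, θₘ x = θ^[m] x
  | 0 => ⟨_, by simpa using Δ.acts_one, fun x => rfl⟩
  | m + 1 => by
    obtain ⟨θₘ, hm, hx⟩ := acts_pow h m
    exact ⟨θ.comp θₘ, by rw [pow_succ]; exact Δ.acts_mul hm h, fun x => by
      rw [AddMonoidHom.comp_apply, hx, ← Function.iterate_succ_apply' θ]⟩

/-- A point of finite order acting trivially on the line of the root centralizes the torus. -/
theorem mem_torus {n : U1 ⟶ C} {θ θ' : Δ.M →+ Δ.M} (h : Δ.Acts n θ) (h' : Δ.Acts n⁻¹ θ')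
    (hfix : θ Δ.a₀ = Δ.a₀) : ∃ t : U1 ⟶ T, t ≫ iT = n := by
  classical
  haveI := Δ.max.1; haveI := Δ.max.2.1
  obtain ⟨Z, gZ, z, hz⟩ := exists_centralizer_torus iT Δ.max.2.2.1
  obtain ⟨R, hR, hreps⟩ := exists_finite_reps Δ.max.2.2.1 hz
  have hconj : ∀ {a : U1 ⟶ C} {α : Δ.M →+ Δ.M}, Δ.Acts a α →
      AGF.conjBy a iT = (Δ.e ≫ Red.DSmap SK α ≫ inv Δ.e) ≫ iT := fun {a α} ha => by
    rw [Category.assoc, Category.assoc, ← ha, comp_conjBy, IsIso.hom_inv_id_assoc]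
  have hnorm : ∀ m : ℕ, ∃ r ∈ R, ∃ w : U1 ⟶ Z, r * (w ≫ z) = n ^ m := fun m => by
    obtain ⟨α, hα, -⟩ := Δ.acts_pow h m
    obtain ⟨β, hβ, -⟩ := Δ.acts_pow h' m
    refine hreps _ fun X y => ⟨⟨y ≫ Δ.e ≫ Red.DSmap SK α ≫ inv Δ.e, ?_⟩,
      ⟨y ≫ Δ.e ≫ Red.DSmap SK β ≫ inv Δ.e, ?_⟩⟩
    · rw [Category.assoc, ← hconj hα, comp_conjBy]
    · rw [Category.assoc, ← hconj hβ, comp_conjBy]
      simp [AGF.conjBy, GrpObj.comp_inv, inv_pow]
  choose r hr w hw using hnorm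
  obtain ⟨m₁, m₂, hne, hrr⟩ := hR.exists_lt_map_eq_of_forall_mem hr
  let c : U1 ⟶ C := (w m₁ ≫ z)⁻¹ * (w m₂ ≫ z)
  have hc : n ^ (m₂ - m₁) = c := by
    apply mul_left_cancel (a := n ^ m₁)
    rw [← pow_add, Nat.add_sub_cancel' hne.le, ← hw, ← hw, hrr]
    simp [c, _root_.mul_assoc]
  have hcfix : AGF.conjBy c iT = iT := by
    haveI := hz.1
    have e : c = ((w m₁)⁻¹ * w m₂) ≫ z := by rw [MonObj.mul_comp, GrpObj.inv_comp]
    have := (hz.2.2 U1 c).1 ⟨_, e.symm⟩ T (toUnit T) (𝟙 T)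
    rw [Category.id_comp] at this
    show _ = _
    simp only [AGF.conjBy]
    rw [this, mul_inv_cancel_right]
  obtain ⟨α, hα, hαx⟩ := Δ.acts_pow h (m₂ - m₁)
  have hαid : α = AddMonoidHom.id _ := Δ.acts_unique hα (by
    rw [hc, Acts, Groth.L25.TorusTorsion.DSmap_id, Category.id_comp, ← comp_conjBy, hcfix])
  have hid : θ = AddMonoidHom.id _ := eq_id_of_finite_order Δ.ker (Δ.acts_fix h) hfix
    (Nat.sub_ne_zero_of_lt hne) fun x => by rw [← hαx, hαid]; rfl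
  refine Δ.self_centralizing n ?_
  rw [hconj h, hid, Groth.L25.TorusTorsion.DSmap_id, Category.id_comp, IsIso.hom_inv_id, Category.id_comp]

include Δ in
/-- Among three Borel subgroups containing the torus two coincide. -/
theorem trichotomy {B₀ B₁ B₂ : Over (Spec (CommRingCat.of k))} [GrpObj B₀] [GrpObj B₁] [GrpObj B₂]
    {i₀ : B₀ ⟶ C} {i₁ : B₁ ⟶ C} {i₂ : B₂ ⟶ C} (h₀ : Red.IsBorelOver k i₀) (h₁ : Red.IsBorelOver k i₁)
    (h₂ : Red.IsBorelOver k i₂) {t₀ : T ⟶ B₀} {t₁ : T ⟶ B₁} {t₂ : T ⟶ B₂} (ht₀ : t₀ ≫ i₀ = iT)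
    (ht₁ : t₁ ≫ i₁ = iT) (ht₂ : t₂ ≫ i₂ = iT) :
    (∃ f : B₀ ≅ B₁, f.hom ≫ i₁ = i₀) ∨ (∃ f : B₀ ≅ B₂, f.hom ≫ i₂ = i₀) ∨ (∃ f : B₁ ≅ B₂, f.hom ≫ i₂ = i₁) := by
  obtain ⟨n, τ, σ, hτ, hσ⟩ := exists_normalizing Δ.max h₀ h₁ t₀ ht₀ t₁ ht₁
  obtain ⟨n', τ', σ', hτ', hσ'⟩ := exists_normalizing Δ.max h₀ h₂ t₀ ht₀ t₂ ht₂
  obtain ⟨θ, ψ, hθ, hψ, hinv⟩ := Δ.exists_acts hτ
  obtain ⟨θ', ψ', hθ', hψ', hinv'⟩ := Δ.exists_acts hτ'
  have key : ∀ {B : Over (Spec (CommRingCat.of k))} [GrpObj B] {i : B ⟶ C} {m : U1 ⟶ C} (s : B₀ ≅ B),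
      s.hom ≫ i = AGF.conjBy m i₀ → (∃ t : U1 ⟶ T, t ≫ iT = m) → ∃ f : B₀ ≅ B, f.hom ≫ i = i₀ := by
    rintro B _ i m s hs ⟨t, rfl⟩
    haveI := h₀.1
    obtain ⟨κ, hκ⟩ := exists_conjIso (t ≫ t₀)
    refine ⟨κ.symm ≪≫ s, ?_⟩
    rw [Iso.trans_hom, Category.assoc, hs, Iso.symm_hom, Iso.inv_comp_eq]
    have e : κ.hom = AGF.conjBy (t ≫ t₀) (𝟙 B₀) := (Category.id_comp _).symm.trans (hκ _)
    rw [e, conjBy_comp, Category.id_comp, Category.assoc, ht₀]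
  rcases sign_of_aut Δ.ne Δ.ker (Δ.acts_fix hθ) (Δ.acts_fix hψ) hinv with hp | hn
  · exact Or.inl (key σ hσ (Δ.mem_torus hθ hψ hp))
  rcases sign_of_aut Δ.ne Δ.ker (Δ.acts_fix hθ') (Δ.acts_fix hψ') hinv' with hp' | hn'
  · exact Or.inr (Or.inl (key σ' hσ' (Δ.mem_torus hθ' hψ' hp')))
  refine Or.inr (Or.inr ?_)
  have hm : Δ.Acts (n⁻¹ * n') (θ'.comp ψ) := Δ.acts_mul hψ hθ'
  have hm' : Δ.Acts (n⁻¹ * n')⁻¹ (θ.comp ψ') := by
    rw [_root_.mul_inv_rev, _root_.inv_inv]; exact Δ.acts_mul hψ' hθ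
  have e1 : ψ Δ.a₀ = -Δ.a₀ := by
    have := DFunLike.congr_fun hinv Δ.a₀
    rw [AddMonoidHom.comp_apply, hn, map_neg, AddMonoidHom.id_apply] at this
    exact neg_eq_iff_eq_neg.1 this
  obtain ⟨t, ht⟩ := Δ.mem_torus hm hm' (by rw [AddMonoidHom.comp_apply, e1, map_neg, hn', neg_neg])
  obtain ⟨f, hf⟩ := key (σ' ≪≫ Iso.refl B₂) (i := AGF.conjBy n⁻¹ i₂) (m := n⁻¹ * n') (by
    rw [Iso.trans_hom, Iso.refl_hom, Category.comp_id, comp_conjBy, hσ', conjBy_conjBy]) ⟨t, ht⟩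
  refine ⟨σ.symm ≪≫ f, ?_⟩
  have e2 : f.hom ≫ i₂ = AGF.conjBy n i₀ := by
    rw [← hf, comp_conjBy, conjBy_conjBy, mul_inv_cancel, conjBy_one]
  rw [Iso.trans_hom, Category.assoc, e2, ← hσ, Iso.symm_hom, Iso.inv_hom_id_assoc]

include Δ in
/-- The quotient by a Borel subgroup has dimension at most one. -/
theorem dim_quotient_le {B : Over (Spec (CommRingCat.of k))} [GrpObj B] {iB : B ⟶ C} (hB : Red.IsBorelOver k iB)
    {t : T ⟶ B} (ht : t ≫ iB = iT) {X : Over (Spec (CommRingCat.of k))} {a : AlgGrp.Action C X} {o : U1 ⟶ X}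
    (hX : AGF.IsQuotient iB X a o) : topologicalKrullDim X.left ≤ 1 := by
  classical
  haveI := Δ.max.1; haveI := Δ.max.2.1
  haveI := hB.1; haveI := hB.2.1; haveI := hB.2.2.1
  haveI : Mono iB := Groth.L08.mono_of_closedImmersion iB
  haveI := isProper_quotient_of_borel hB hX
  haveI : LocallyOfFiniteType C.hom := inferInstance
  by_contra hc
  have h2 : ((2 : ℕ) : WithBot ℕ∞) ≤ topologicalKrullDim X.left := by
    rw [not_le] at hc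
    exact le_of_not_gt fun h => absurd (withBot_le_of_lt_succ h) (not_le.2 (by exact_mod_cast hc))
  obtain ⟨s, hs, hcard⟩ := Groth.L14.Luna.exists_fixed_quotient iB hX iT Δ.max.2.2.1 h2
  obtain ⟨x₀, hx₀, x₁, hx₁, x₂, hx₂, h01, h02, h12⟩ := Finset.two_lt_card.1 (show 2 < s.card by omega)
  obtain ⟨hTaff, hTsm, -, -, -⟩ := torus_props Δ.max.2.2.1
  haveI := hTsm
  haveI : IsReduced T.left := Groth.Agent.AV.isReduced_of_smooth_field T.hom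
  have horb : ∀ g : U1 ⟶ C, g ≫ a.orbitMap o = lift g o ≫ a.act := fun g => by
    rw [comp_orbitMap, toUnit_unique (toUnit U1) (𝟙 _), Category.id_comp]
  have hdata : ∀ x ∈ s, ∃ (g : U1 ⟶ C) (t' : T ⟶ B), g ≫ a.orbitMap o = x ∧ t' ≫ AGF.conjBy g iB = iT := by
    intro x hx
    obtain ⟨g, hg⟩ := exists_point_eq hX x
    haveI := isClosedImmersion_conjBy g iB
    obtain ⟨t', ht'⟩ := factor_of_pts iT (AGF.conjBy g iB) fun u => by
      have h1 : lift (u ≫ iT) x ≫ a.act = x := hs x hx u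
      rw [← hg, horb, ← Groth.L25.Actions.mul_act, ← horb, ← horb] at h1
      obtain ⟨q, hq⟩ := (orbitMap_eq_iff hX _ _).1 h1
      refine ⟨q⁻¹, ?_⟩
      rw [Groth.L14.Luna.pt_conjBy, GrpObj.inv_comp, hq]
      group
    exact ⟨g, t', hg, ht'⟩
  have hsame : ∀ {x y : U1 ⟶ X} {g g' : U1 ⟶ C}, g ≫ a.orbitMap o = x → g' ≫ a.orbitMap o = y →
      (∃ f : B ≅ B, f.hom ≫ AGF.conjBy g' iB = AGF.conjBy g iB) → x = y := by
    rintro x y g g' rfl rfl ⟨f, hf⟩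
    obtain ⟨z, hz⟩ := mem_of_normalizes_borel hB (g'⁻¹ * g)⁻¹ fun w => ⟨w ≫ f.hom, by
      have e := congrArg (w ≫ ·) hf
      simp only [← Category.assoc] at e
      rw [pt_conjBy, pt_conjBy] at e
      have e' : (w ≫ f.hom) ≫ iB = g'⁻¹ * g * (w ≫ iB) * (g'⁻¹ * g)⁻¹ := by
        calc (w ≫ f.hom) ≫ iB = g'⁻¹ * (g' * ((w ≫ f.hom) ≫ iB) * g'⁻¹) * g' := by group
          _ = g'⁻¹ * (g * (w ≫ iB) * g⁻¹) * g' := by rw [e]
          _ = _ := by group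
      rw [e', _root_.inv_inv]⟩
    refine (orbitMap_eq_iff hX g g').2 ⟨z, ?_⟩
    rw [hz]; group
  obtain ⟨g₀, u₀, hg₀, hu₀⟩ := hdata x₀ hx₀
  obtain ⟨g₁, u₁, hg₁, hu₁⟩ := hdata x₁ hx₁
  obtain ⟨g₂, u₂, hg₂, hu₂⟩ := hdata x₂ hx₂
  rcases Δ.trichotomy (isBorelOver_conjBy hB g₀) (isBorelOver_conjBy hB g₁) (isBorelOver_conjBy hB g₂) hu₀ hu₁ hu₂ with
    h | h | h
  · exact h01 (hsame hg₀ hg₁ h)
  · exact h02 (hsame hg₀ hg₂ h)
  · exact h12 (hsame hg₁ hg₂ h)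

end Setup

end Groth.L14.Luna.SemiRank
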